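import Cfsg.Prelude.Def_SolvableStructure
import Cfsg.Agent.Lib.Hall.Converse
import Mathlib.GroupTheory.NoncommPiCoprod

/-! Sylow systems, Hall complement systems and system normalizers. -/

set_option autoImplicit false

namespace Cfsg.Agent.Lib.Hall

open scoped Pointwise
open Subgroup Cfsg.Agent.Lib.Coprime

variable {G : Type*} [Group G]

/-- The product of two permuting subgroups is their join. -/
theorem coe_sup_of_permute {A B : Subgroup G} (h : (A : Set G) * B = (B : Set G) * A) :
    ((A ⊔ B : Subgroup G) : Set G) = (A : Set G) * B := by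
  refine Set.Subset.antisymm ?_ (fun x hx => ?_)
  · let S : Subgroup G :=
      { carrier := (A : Set G) * B
        one_mem' := ⟨1, A.one_mem, 1, B.one_mem, mul_one 1⟩
        mul_mem' := by
          rintro _ _ ⟨a, ha, b, hb, rfl⟩ ⟨a', ha', b', hb', rfl⟩
          have : b * a' ∈ (A : Set G) * B := h ▸ Set.mul_mem_mul hb ha'
          obtain ⟨a'', ha'', b'', hb'', e⟩ := this
          refine ⟨a * a'', A.mul_mem ha ha'', b'' * b', B.mul_mem hb'' hb', ?_⟩
          calc a * a'' * (b'' * b') = a * (a'' * b'') * b' := by group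
            _ = a * b * (a' * b') := by
              rw [show a'' * b'' = b * a' from e]; group
        inv_mem' := by
          rintro _ ⟨a, ha, b, hb, rfl⟩
          rw [h]
          exact ⟨b⁻¹, B.inv_mem hb, a⁻¹, A.inv_mem ha, (mul_inv_rev a b).symm⟩ }
    exact SetLike.coe_subset_coe.mpr (sup_le (a := A) (b := B) (c := S)
      (fun a ha => ⟨a, ha, 1, B.one_mem, mul_one a⟩) (fun b hb => ⟨1, A.one_mem, b, hb, one_mul b⟩))
  · obtain ⟨a, ha, b, hb, rfl⟩ := hx
    exact mul_mem_sup ha hb

theorem index_finset_inf [Finite G] {ι : Type*} (s : Finset ι) (K : ι → Subgroup G)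
    (h : ∀ i ∈ s, ∀ j ∈ s, i ≠ j → (K i).index.Coprime (K j).index) :
    (s.inf K).index = ∏ i ∈ s, (K i).index := by
  classical
  induction s using Finset.induction_on with
  | empty => simp
  | insert a s ha ih =>
    have ih' := ih fun i hi j hj => h i (Finset.mem_insert_of_mem hi) j (Finset.mem_insert_of_mem hj)
    have hc : (K a).index.Coprime (s.inf K).index := by
      rw [ih']
      refine Nat.Coprime.prod_right fun i hi =>
        h a (Finset.mem_insert_self a s) i (Finset.mem_insert_of_mem hi) ?_
      rintro rfl; exact ha hi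
    rw [Finset.inf_insert, index_inf_of_coprime hc, Finset.prod_insert ha, ih']

/-- If `D` normalises `K`, relative indices do not change when passing to `D ⊔ K`. -/
theorem relIndex_left_sup [Finite G] {D K : Subgroup G} (h : D ≤ normalizer (K : Set G)) :
    D.relIndex K = D.relIndex (D ⊔ K) := by
  have h1 := card_sup_mul_card_inf_of_le_normalizer h
  have h2 := (D.subgroupOf (D ⊔ K)).index_mul_card
  have h3 := (D.subgroupOf K).index_mul_card
  rw [card_subgroupOf le_sup_left] at h2
  rw [card_subgroupOf_inf] at h3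
  rw [← h2, ← h3] at h1
  apply mul_right_cancel₀ (mul_ne_zero (Nat.card_pos (α := D)).ne'
    (Nat.card_pos (α := (D ⊓ K : Subgroup G))).ne')
  calc _ = Nat.card D * (D.relIndex K * Nat.card (D ⊓ K : Subgroup G)) := by ring
    _ = D.relIndex (D ⊔ K) * Nat.card D * Nat.card (D ⊓ K : Subgroup G) := h1.symm
    _ = _ := by ring

/-- The relative index in a normal subgroup divides the index. -/
theorem relIndex_normal_dvd_index [Finite G] (A N : Subgroup G) [N.Normal] : A.relIndex N ∣ A.index := by
  rw [relIndex_left_sup le_normalizer_of_normal]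
  exact relIndex_mul_index (le_sup_left : A ≤ A ⊔ N) ▸ dvd_mul_right _ _

section System

variable {K : Nat.Primes → Subgroup G}

theorem system_index_coprime (hK : IsComplementSystem K) {p q : Nat.Primes} (hpq : p ≠ q) :
    (K p).index.Coprime (K q).index := by
  rw [hK p, hK q]
  exact Nat.Coprime.pow _ _ ((Nat.coprime_primes p.2 q.2).mpr fun h => hpq (Subtype.ext h))

theorem system_eq_top [Finite G] (hK : IsComplementSystem K) {p : Nat.Primes}
    (h : ¬ (p : ℕ) ∣ Nat.card G) : K p = ⊤ := by
  rw [← index_eq_one, hK p, Nat.factorization_eq_zero_of_not_dvd h, pow_zero]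

theorem system_not_dvd_card [Finite G] (hK : IsComplementSystem K) (p : Nat.Primes) :
    ¬ (p : ℕ) ∣ Nat.card (K p) := by
  intro h
  have h1 := Nat.mul_dvd_mul_right h ((p : ℕ) ^ (Nat.card G).factorization p)
  rw [show Nat.card (K p) * (p : ℕ) ^ (Nat.card G).factorization p = Nat.card G by
    rw [← hK p, card_mul_index], mul_comm, ← pow_succ] at h1
  exact Nat.pow_succ_factorization_not_dvd Nat.card_pos.ne' p.2 h1

theorem system_conj [Finite G] (hK : IsComplementSystem K) (g : G) :
    IsComplementSystem fun p => MulAut.conj g • K p := by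
  intro p
  show (MulAut.conj g • K p).index = _
  rw [← hK p]
  apply mul_left_cancel₀ (Nat.card_pos (α := (MulAut.conj g • K p : Subgroup G))).ne'
  rw [card_mul_index, card_conj_smul, card_mul_index]

theorem exists_complementSystem [Finite G] [Group.IsSolvable G] :
    ∃ K : Nat.Primes → Subgroup G, IsComplementSystem K := by
  refine ⟨fun p => Classical.choose (exists_subgroup_card_eq (G := G)
    (m := Nat.card G / (p : ℕ) ^ (Nat.card G).factorization p)
    (n := (p : ℕ) ^ (Nat.card G).factorization p) ?_ ?_), fun p => ?_⟩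
  · exact (Nat.div_mul_cancel (Nat.ordProj_dvd _ _)).symm
  · exact Nat.Coprime.pow_right _ (Nat.coprime_ordCompl p.2 Nat.card_pos.ne').symm
  · have h := Classical.choose_spec (exists_subgroup_card_eq (G := G)
      (m := Nat.card G / (p : ℕ) ^ (Nat.card G).factorization p)
      (n := (p : ℕ) ^ (Nat.card G).factorization p) (Nat.div_mul_cancel (Nat.ordProj_dvd _ _)).symm
      (Nat.Coprime.pow_right _ (Nat.coprime_ordCompl p.2 Nat.card_pos.ne').symm))
    dsimp only
    have h2 := card_mul_index (Classical.choose (exists_subgroup_card_eq (G := G)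
      (m := Nat.card G / (p : ℕ) ^ (Nat.card G).factorization p)
      (n := (p : ℕ) ^ (Nat.card G).factorization p) (Nat.div_mul_cancel (Nat.ordProj_dvd _ _)).symm
      (Nat.Coprime.pow_right _ (Nat.coprime_ordCompl p.2 Nat.card_pos.ne').symm)))
    conv_rhs at h2 => rw [← Nat.div_mul_cancel (Nat.ordProj_dvd (Nat.card G) p)]
    rw [h] at h2
    exact mul_left_cancel₀ (Nat.ordCompl_pos (p : ℕ) Nat.card_pos.ne').ne' h2

theorem system_conj_rel_finset [Finite G] [Group.IsSolvable G] {K L : Nat.Primes → Subgroup G}
    (hK : IsComplementSystem K) (hL : IsComplementSystem L) (N : Subgroup G) [N.Normal]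
    (hN : ∀ p, K p ⊔ N = L p ⊔ N) (s : Finset Nat.Primes) :
    ∃ g ∈ N, ∀ p ∈ s, MulAut.conj g • K p = L p := by
  classical
  induction s using Finset.induction_on with
  | empty => exact ⟨1, N.one_mem, fun p hp => absurd hp (Finset.notMem_empty p)⟩
  | insert a s ha ih =>
    obtain ⟨g, hg, hgs⟩ := ih
    let K' := MulAut.conj g • K a
    have hK' : K'.index = (L a).index := by
      rw [hL a]; exact system_conj hK g a
    have hT : K' ⊔ N = L a ⊔ N := by
      rw [← hN a]
      conv_rhs => rw [← conj_smul_eq_self (le_normalizer (mem_sup_right hg : g ∈ K a ⊔ N))]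
      rw [smul_sup, conj_smul_of_normal N]
    let T : Subgroup G := K' ⊔ N
    have hK'T : K' ≤ T := le_sup_left
    have hLT : L a ≤ T := hT.ge.trans' le_sup_left
    have hcard : Nat.card K' = Nat.card (L a) := by
      apply mul_right_cancel₀ ((L a).index_ne_zero_of_finite)
      rw [card_mul_index, ← hK', card_mul_index]
    obtain ⟨t, ht⟩ := exists_conj_eq (H := K'.subgroupOf T) (K := (L a).subgroupOf T) (by
        rw [card_subgroupOf hK'T]
        refine Nat.Coprime.coprime_dvd_right (relIndex_mul_index hK'T ▸ dvd_mul_right _ _) ?_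
        rw [hK', hL a]
        refine Nat.Coprime.pow_right _ ?_
        rw [Nat.coprime_comm, a.2.coprime_iff_not_dvd, hcard]
        exact system_not_dvd_card hL a)
      (by rw [card_subgroupOf hLT, card_subgroupOf hK'T, hcard])
    have ht' := congrArg (Subgroup.map T.subtype) ht
    rw [map_conj_smul, map_subgroupOf_eq_of_le hK'T, map_subgroupOf_eq_of_le hLT] at ht'
    have htm : (t : G) ∈ N ⊔ K' := sup_comm K' N ▸ t.2
    rw [← SetLike.mem_coe, normal_mul] at htm
    obtain ⟨n, hn, k, hk, htnk⟩ := htm
    rw [show T.subtype t = n * k from htnk.symm, conj_smul_mul,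
      conj_smul_eq_self (le_normalizer hk)] at ht'
    -- write `n = m * k'` with `m` fixing the members already treated
    let M : Subgroup G := s.inf L
    have hc : (M.subgroupOf N).index.Coprime (K'.subgroupOf N).index := by
      have h1 : M.index.Coprime K'.index := by
        rw [hK', index_finset_inf s L fun i _ j _ hij => system_index_coprime hL hij]
        exact Nat.Coprime.prod_left fun i hi => system_index_coprime hL (by rintro rfl; exact ha hi)
      exact (h1.coprime_dvd_left (relIndex_normal_dvd_index M N)).coprime_dvd_right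
        (relIndex_normal_dvd_index K' N)
    obtain ⟨m, hm, k', hk', e⟩ := exists_mul_of_coprime_index hc ⟨n, hn⟩
    refine ⟨(m : G) * g, N.mul_mem m.2 hg, fun p hp => ?_⟩
    rcases Finset.mem_insert.mp hp with rfl | hp
    · have : n = (m : G) * k' := congrArg Subtype.val e
      rw [this, conj_smul_mul, conj_smul_eq_self (le_normalizer (mem_subgroupOf.mp hk'))] at ht'
      rw [conj_smul_mul]; exact ht'
    · rw [conj_smul_mul, hgs p hp]
      exact conj_smul_eq_self (le_normalizer ((Finset.inf_le hp : s.inf L ≤ L p) (mem_subgroupOf.mp hm)))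

theorem system_conj_rel [Finite G] [Group.IsSolvable G] {K L : Nat.Primes → Subgroup G}
    (hK : IsComplementSystem K) (hL : IsComplementSystem L) (N : Subgroup G) [N.Normal]
    (hN : ∀ p, K p ⊔ N = L p ⊔ N) : ∃ g ∈ N, ∀ p, MulAut.conj g • K p = L p := by
  obtain ⟨g, hg, h⟩ := system_conj_rel_finset hK hL N hN
    ((Nat.card G).primeFactors.subtype Nat.Prime : Finset Nat.Primes)
  refine ⟨g, hg, fun p => ?_⟩
  by_cases hp : (p : ℕ) ∣ Nat.card G
  · exact h p (Finset.mem_subtype.mpr (Nat.mem_primeFactors.mpr ⟨p.2, hp, Nat.card_pos.ne'⟩))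
  · rw [system_eq_top hK hp, system_eq_top hL hp, conj_smul_of_normal]

theorem mem_systemNormalizer {g : G} :
    g ∈ systemNormalizer K ↔ ∀ p, g ∈ normalizer (K p : Set G) := by
  simp [systemNormalizer, mem_iInf]

theorem system_map [Finite G] (hK : IsComplementSystem K) (N : Subgroup G) [N.Normal] :
    IsComplementSystem fun p => (K p).map (QuotientGroup.mk' N) := by
  intro p
  have hs := QuotientGroup.mk'_surjective N
  have h1 : ((K p).map (QuotientGroup.mk' N)).index ∣ (p : ℕ) ^ (Nat.card G).factorization p :=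
    hK p ▸ index_map_dvd _ hs
  obtain ⟨e, -, he⟩ := (Nat.dvd_prime_pow p.2).mp h1
  have h2 : ¬ (p : ℕ) ∣ Nat.card ((K p).map (QuotientGroup.mk' N)) := fun h =>
    system_not_dvd_card hK p (h.trans (card_map_dvd _ _))
  have h3 := congrArg (fun m => m.factorization p) ((K p).map (QuotientGroup.mk' N)).card_mul_index
  rw [he] at h3
  simp only [Nat.factorization_mul Nat.card_pos.ne' (pow_ne_zero _ p.2.ne_zero), Finsupp.add_apply,
    p.2.factorization_pow, Finsupp.single_eq_same, Nat.factorization_eq_zero_of_not_dvd h2,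
    zero_add] at h3
  show ((K p).map (QuotientGroup.mk' N)).index = _
  rw [he, h3]

theorem systemNormalizer_map [Finite G] [Group.IsSolvable G] (hK : IsComplementSystem K)
    (N : Subgroup G) [N.Normal] :
    systemNormalizer (fun p => (K p).map (QuotientGroup.mk' N)) =
      (systemNormalizer K).map (QuotientGroup.mk' N) := by
  apply le_antisymm
  · intro x hx
    obtain ⟨g, rfl⟩ := QuotientGroup.mk'_surjective N x
    rw [mem_systemNormalizer] at hx
    obtain ⟨m, hm, hmg⟩ := system_conj_rel (system_conj hK g) hK N fun p => by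
      apply eq_of_map_mk'_eq
      rw [map_conj_smul]
      exact conj_smul_eq_self (hx p)
    refine ⟨m * g, mem_systemNormalizer.mpr fun p => mem_normalizer_of_conj_smul_eq ?_, ?_⟩
    · rw [conj_smul_mul]; exact hmg p
    · rw [map_mul, show QuotientGroup.mk' N m = 1 from (QuotientGroup.eq_one_iff m).mpr hm, one_mul]
  · rintro _ ⟨g, hg, rfl⟩
    rw [mem_systemNormalizer]
    intro p
    refine mem_normalizer_of_conj_smul_eq ?_
    rw [← map_conj_smul, conj_smul_eq_self (mem_systemNormalizer.mp hg p)]

theorem systemNormalizer_isNilpotent [Finite G] (hK : IsComplementSystem K) :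
    Group.IsNilpotent (systemNormalizer K) := by
  let D := systemNormalizer K
  let ι := (Nat.card G).primeFactors
  let p' : ι → Nat.Primes := fun i => ⟨i, Nat.prime_of_mem_primeFactors i.2⟩
  have hle : ∀ i, D ≤ normalizer (K (p' i) : Set G) := fun i g hg => mem_systemNormalizer.mp hg _
  have hn : ∀ i, ((K (p' i)).subgroupOf D).Normal := fun i => by
    refine ⟨fun x hx g => ?_⟩
    exact (mem_normalizer_iff.mp (hle i g.2) _).mp hx
  have hnil : ∀ i : ι, Group.IsNilpotent (D ⧸ (K (p' i)).subgroupOf D) := fun i => by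
    have : Fact (i : ℕ).Prime := ⟨(p' i).2⟩
    have hdvd : (K (p' i)).relIndex D ∣ (i : ℕ) ^ (Nat.card G).factorization i := by
      have h1 : (K (p' i)).relIndex D = (K (p' i)).relIndex (D ⊔ K (p' i)) := by
        have h := card_sup_mul_card_inf_of_le_normalizer (hle i)
        have h2 := ((K (p' i)).subgroupOf (D ⊔ K (p' i))).index_mul_card
        have h3 := ((K (p' i)).subgroupOf D).index_mul_card
        rw [card_subgroupOf le_sup_right] at h2
        rw [card_subgroupOf_inf, inf_comm] at h3
        rw [← h2, ← h3] at h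
        have hpos : 0 < Nat.card (K (p' i)) * Nat.card (D ⊓ K (p' i) : Subgroup G) :=
          Nat.mul_pos Nat.card_pos Nat.card_pos
        apply mul_right_cancel₀ hpos.ne'
        calc _ = (K (p' i)).relIndex D * Nat.card (D ⊓ K (p' i) : Subgroup G) * Nat.card (K (p' i)) := by ring
          _ = (K (p' i)).relIndex (D ⊔ K (p' i)) * Nat.card (K (p' i)) * Nat.card (D ⊓ K (p' i) : Subgroup G) := h.symm
          _ = _ := by ring
      rw [h1, ← hK (p' i)]
      exact relIndex_mul_index (le_sup_right : K (p' i) ≤ D ⊔ K (p' i)) ▸ dvd_mul_right _ _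
    exact (IsPGroup.of_card_dvd_pow (p := (i : ℕ)) hdvd).isNilpotent
  have := hn
  let φ : D →* ((i : ι) → D ⧸ (K (p' i)).subgroupOf D) := MonoidHom.pi fun i => QuotientGroup.mk' _
  have hinj : Function.Injective φ := by
    rw [← MonoidHom.ker_eq_bot_iff, eq_bot_iff]
    intro x hx
    rw [mem_bot]
    have hmem : ∀ i : ι, (x : G) ∈ K (p' i) := fun i =>
      (QuotientGroup.eq_one_iff x).mp (congrFun (MonoidHom.mem_ker.mp hx) i)
    apply Subtype.ext
    rw [OneMemClass.coe_one, ← orderOf_eq_one_iff]
    by_contra hne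
    obtain ⟨q, hq, hqd⟩ := Nat.exists_prime_and_dvd hne
    have hqG : q ∈ (Nat.card G).primeFactors :=
      Nat.mem_primeFactors.mpr ⟨hq, hqd.trans (orderOf_dvd_natCard (x : G)), Nat.card_pos.ne'⟩
    exact system_not_dvd_card hK (p' ⟨q, hqG⟩) (hqd.trans (orderOf_dvd_natCard _ (hmem ⟨q, hqG⟩)))
  exact Group.nilpotent_of_mulEquiv (G := φ.range) (MonoidHom.ofInjective hinj).symm

end System

/-! ### Sylow systems -/

/-- A family of pairwise permuting subgroups of pairwise coprime orders has a product. -/
theorem exists_product [Finite G] {ι : Type*} (s : Finset ι) (S : ι → Subgroup G)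
    (hperm : ∀ i j, (S i : Set G) * S j = (S j : Set G) * S i)
    (hcop : ∀ i j, i ≠ j → (Nat.card (S i)).Coprime (Nat.card (S j))) :
    ∃ T : Subgroup G, Nat.card T = ∏ i ∈ s, Nat.card (S i) ∧
      ∀ i, (T : Set G) * S i = (S i : Set G) * T := by
  classical
  induction s using Finset.induction_on with
  | empty =>
    refine ⟨⊥, by simp, fun i => ?_⟩
    simp [coe_bot]
  | insert a s ha ih =>
    obtain ⟨T, hT, hTi⟩ := ih
    have hsup := coe_sup_of_permute (hTi a).symm
    refine ⟨S a ⊔ T, ?_, fun i => ?_⟩
    · have h := card_coe_mul_mul_card_inf (S a) T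
      have hc : (Nat.card (S a)).Coprime (Nat.card T) := by
        rw [hT]; exact Nat.Coprime.prod_right fun i hi => hcop a i (by rintro rfl; exact ha hi)
      rw [← hsup, Coprime.inf_eq_bot_of_coprime hc, card_bot, mul_one] at h
      rw [show Nat.card (S a ⊔ T : Subgroup G) = Nat.card ((S a ⊔ T : Subgroup G) : Set G) from rfl, h,
        hT, Finset.prod_insert ha]
    · rw [hsup, mul_assoc, hTi i, ← mul_assoc, hperm a i, mul_assoc]

end Cfsg.Agent.Lib.Hall
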