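import Cfsg.Agent.Lib.Hall.Carter
import Cfsg.Agent.Lib.Coprime.Action
import Cfsg.Agent.Lib.Coprime.Product
import Cfsg.Agent.Lib.Char.Burnside
import Cfsg.Agent.Lib.Uniq.PGroup
import Cfsg.Agent.S0558
import Cfsg.Agent.S0561
import Cfsg.Agent.S0562
import Cfsg.Agent.S0566

/-!
Wielandt: a product of two nilpotent subgroups of coprime orders is solvable.

In a simple counterexample `G = AB` (both factors with two prime divisors) the normalizer `M` of `A`
contains every proper overgroup of `A`, `A` is a trivial intersection set with normalizer `M`, and the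
same holds for `B`; counting the conjugates of `A`, of `B`, and of the mixed elements of
`(M ∩ A)(M ∩ B)`-type products then gives more than `|G|` elements.
-/

set_option autoImplicit false

namespace Cfsg.Agent.Lib.Hall.CoprimeProduct

open scoped Pointwise commutatorElement
open Subgroup Cfsg.Agent.Lib.Coprime Cfsg

universe u

variable {G : Type u} [Group G]

/-- A normal `q`-subgroup lies in every subgroup of index prime to `q`. -/
theorem le_of_normal_pgroup [Finite G] {q : ℕ} [hq : Fact q.Prime] {K : Subgroup G} [K.Normal]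
    (hK : IsPGroup q K) {D : Subgroup G} (hD : ¬ q ∣ D.index) : K ≤ D := by
  rw [← relIndex_eq_one]
  obtain ⟨e, he⟩ := IsPGroup.iff_card.mp hK
  have h1 : D.relIndex K ∣ q ^ e := he ▸ index_dvd_card _
  exact Nat.eq_one_of_dvd_coprimes ((hq.out.coprime_iff_not_dvd.mpr hD).pow_left e) h1
    (relIndex_normal_dvd_index D K)

/-- A normal subgroup of order prime to the index of `D` lies in `D`. -/
theorem le_of_normal_coprime [Finite G] {K : Subgroup G} [K.Normal] {D : Subgroup G}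
    (h : (Nat.card K).Coprime D.index) : K ≤ D := by
  rw [← relIndex_eq_one]
  exact Nat.eq_one_of_dvd_coprimes h (index_dvd_card _) (relIndex_normal_dvd_index D K)

/-- Splitting along two coprime exponents. -/
theorem exists_split {x : G} {m n : ℕ} (hmn : m.Coprime n) (hx : x ^ (m * n) = 1) :
    ∃ i j : ℤ, x = x ^ i * x ^ j ∧ (x ^ i) ^ m = 1 ∧ (x ^ j) ^ n = 1 := by
  obtain ⟨s, t, hst⟩ : IsCoprime (m : ℤ) (n : ℤ) := Int.isCoprime_iff_nat_coprime.mpr (by simpa using hmn)
  have hx' : x ^ ((m : ℤ) * n) = 1 := by exact_mod_cast hx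
  refine ⟨t * n, s * m, ?_, ?_, ?_⟩
  · rw [← zpow_add, add_comm, hst, zpow_one]
  · rw [← zpow_natCast, ← zpow_mul, show t * (n : ℤ) * m = (m : ℤ) * n * t by ring, zpow_mul, hx', one_zpow]
  · rw [← zpow_natCast, ← zpow_mul, show s * (m : ℤ) * n = (m : ℤ) * n * s by ring, zpow_mul, hx', one_zpow]

theorem eq_one_of_pow_coprime {x : G} {m n : ℕ} (hmn : m.Coprime n) (h1 : x ^ m = 1) (h2 : x ^ n = 1) :
    x = 1 := by
  have := pow_gcd_eq_one.mpr ⟨h1, h2⟩
  rwa [hmn, pow_one] at this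

/-- The standing hypotheses on a simple counterexample. -/
structure Data (A B : Subgroup G) : Prop where
  simple : IsSimpleGroup G
  nilA : Group.IsNilpotent A
  nilB : Group.IsNilpotent B
  cop : (Nat.card A).Coprime (Nat.card B)
  fact : ∀ g : G, ∃ a ∈ A, ∃ b ∈ B, g = a * b
  neA : A ≠ ⊥
  neB : B ≠ ⊥
  twoA : ∀ p : ℕ, ∃ q, q.Prime ∧ q ∣ Nat.card A ∧ q ≠ p
  twoB : ∀ p : ℕ, ∃ q, q.Prime ∧ q ∣ Nat.card B ∧ q ≠ p
  ih : ∀ L : Subgroup G, L ≠ ⊤ → (∀ g ∈ L, ∃ a ∈ A ⊓ L, ∃ b ∈ B ⊓ L, g = a * b) → Group.IsSolvable L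

namespace Data

variable {A B : Subgroup G} (h : Data A B)

include h

theorem fact' (g : G) : ∃ b ∈ B, ∃ a ∈ A, g = b * a := by
  obtain ⟨a, ha, b, hb, e⟩ := h.fact g⁻¹
  exact ⟨b⁻¹, inv_mem hb, a⁻¹, inv_mem ha, by rw [← mul_inv_rev, ← e, inv_inv]⟩

theorem symm : Data B A where
  simple := h.simple
  nilA := h.nilB
  nilB := h.nilA
  cop := h.cop.symm
  fact := h.fact'
  neA := h.neB
  neB := h.neA
  twoA := h.twoB
  twoB := h.twoA
  ih L hL hfac := h.ih L hL fun g hg => by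
    obtain ⟨b, hb, a, ha, e⟩ := hfac g⁻¹ (inv_mem hg)
    exact ⟨a⁻¹, inv_mem ha, b⁻¹, inv_mem hb, by rw [← mul_inv_rev, ← e, inv_inv]⟩

variable [Finite G]

theorem inf_eq : A ⊓ B = ⊥ := Coprime.inf_eq_bot_of_coprime h.cop

omit h [Finite G] in
theorem one_of_mem {x : G} (hinf : A ⊓ B = ⊥) (ha : x ∈ A) (hb : x ∈ B) : x = 1 :=
  mem_bot.mp (hinf ▸ mem_inf.mpr ⟨ha, hb⟩)

theorem neTop : A ≠ ⊤ := fun e => h.neB (by have := h.inf_eq; rwa [e, top_inf_eq] at this)

theorem card_eq : Nat.card G = Nat.card A * Nat.card B := by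
  have h1 := Coprime.card_coe_mul_mul_card_inf A B
  rw [h.inf_eq, card_bot, mul_one] at h1
  rw [← h1, show ((A : Set G) * (B : Set G)) = Set.univ from Set.eq_univ_of_forall fun g => by
    obtain ⟨a, ha, b, hb, rfl⟩ := h.fact g
    exact Set.mul_mem_mul ha hb]
  exact (Nat.card_congr (Equiv.Set.univ G)).symm

theorem index_eq : A.index = Nat.card B :=
  Nat.eq_of_mul_eq_mul_left Nat.card_pos (A.card_mul_index.trans h.card_eq)

theorem cop_index : (Nat.card A).Coprime A.index := h.index_eq ▸ h.cop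

omit [Finite G] in
theorem eq_bot_or_top {N : Subgroup G} (hN : N.Normal) : N = ⊥ ∨ N = ⊤ :=
  h.simple.eq_bot_or_eq_top_of_normal N hN

theorem centralizer_ne_top {x : G} (hx : x ≠ 1) (hxA : x ∈ A) :
    centralizer ({x} : Set G) ≠ ⊤ := by
  intro e
  have hn : (zpowers x).Normal := Thompson.normal_of_le_center (zpowers_le.mpr (mem_center_iff.mpr fun g =>
    mem_centralizer_singleton_iff.mp (e ▸ mem_top g : g ∈ centralizer ({x} : Set G))))
  rcases h.eq_bot_or_top hn with e' | e'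
  · exact hx (zpowers_eq_bot.mp e')
  · exact h.neTop (top_le_iff.mp (e' ▸ zpowers_le.mpr hxA))

theorem normalizer_ne_top {K : Subgroup G} (hK : K ≠ ⊥) (hK' : K ≠ ⊤) : normalizer (K : Set G) ≠ ⊤ :=
  fun e => (h.eq_bot_or_top (normalizer_eq_top_iff.mp e)).elim hK hK'

omit [Finite G] in
theorem factorised_of_le {X : Subgroup G} (hA : A ≤ X) : ∀ g ∈ X, ∃ a ∈ A ⊓ X, ∃ b ∈ B ⊓ X, g = a * b := by
  intro g hg
  obtain ⟨a, ha, b, hb, e⟩ := h.fact g
  exact ⟨a, ⟨ha, hA ha⟩, b, ⟨hb, by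
    have := mul_mem (inv_mem (hA ha)) hg
    rwa [e, inv_mul_cancel_left] at this⟩, e⟩

omit [Finite G] in
theorem solvable_of_le {X : Subgroup G} (hA : A ≤ X) (hX : X ≠ ⊤) : Group.IsSolvable X :=
  h.ih X hX (h.factorised_of_le hA)

/-- The index of `A ∩ L` in a factorised `L` is prime to `|A|`. -/
theorem relIndex_dvd {L : Subgroup G} (hfac : ∀ g ∈ L, ∃ a ∈ A ⊓ L, ∃ b ∈ B ⊓ L, g = a * b) :
    A.relIndex L ∣ Nat.card B := by
  have h1 := Coprime.card_coe_mul_mul_card_inf (A ⊓ L) (B ⊓ L)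
  have hbot : (A ⊓ L) ⊓ (B ⊓ L) = ⊥ :=
    eq_bot_iff.mpr ((inf_le_inf inf_le_left inf_le_left).trans h.inf_eq.le)
  rw [hbot, card_bot, mul_one] at h1
  have hset : ((A ⊓ L : Subgroup G) : Set G) * ((B ⊓ L : Subgroup G) : Set G) = (L : Set G) := by
    refine Set.Subset.antisymm ?_ fun g hg => ?_
    · rintro _ ⟨a, ha, b, hb, rfl⟩
      exact mul_mem ha.2 hb.2
    · obtain ⟨a, ha, b, hb, rfl⟩ := hfac g hg
      exact Set.mul_mem_mul ha hb
  rw [hset] at h1
  have h2 := (A.subgroupOf L).index_mul_card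
  rw [card_subgroupOf_inf] at h2
  change A.relIndex L * _ = _ at h2
  have h3 : A.relIndex L = Nat.card ↥(B ⊓ L) :=
    Nat.eq_of_mul_eq_mul_right (Nat.card_pos (α := ↥(A ⊓ L))) (h2.trans (h1.trans (mul_comm _ _)))
  exact h3 ▸ card_dvd_of_le inf_le_left

/-- A subgroup of `B` normalised by `A` is trivial. -/
theorem eq_bot_of_le_B {K : Subgroup G} (hK : K ≤ B) (hAK : A ≤ normalizer (K : Set G)) : K = ⊥ := by
  by_contra hne
  have hle : normalClosure (K : Set G) ≤ B := by
    refine (closure_le _).mpr fun y hy => ?_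
    obtain ⟨k, hk, hky⟩ := Group.mem_conjugatesOfSet_iff.mp hy
    obtain ⟨g, rfl⟩ := isConj_iff.mp hky
    obtain ⟨b, hb, a, ha, rfl⟩ := h.fact' g
    have h1 : a * k * a⁻¹ ∈ B := hK ((mem_normalizer_iff.mp (hAK ha) k).mp hk)
    have := mul_mem (mul_mem hb h1) (inv_mem hb)
    simpa [mul_assoc] using this
  rcases h.eq_bot_or_top normalClosure_normal with e | e
  · exact hne (eq_bot_iff.mpr (e ▸ le_normalClosure))
  · exact h.symm.neTop (top_le_iff.mp (e ▸ hle))

/-- A proper overgroup of `A` contains no nontrivial normal subgroup of `B`. -/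
theorem eq_bot_of_normal {X : Subgroup G} (hA : A ≤ X) (hX : X ≠ ⊤) {Y : Subgroup G} (hY : Y ≤ X)
    (hBY : B ≤ normalizer (Y : Set G)) : Y = ⊥ := by
  by_contra hne
  have hle : normalClosure (Y : Set G) ≤ X := by
    refine (closure_le _).mpr fun y hy => ?_
    obtain ⟨k, hk, hky⟩ := Group.mem_conjugatesOfSet_iff.mp hy
    obtain ⟨g, rfl⟩ := isConj_iff.mp hky
    obtain ⟨a, ha, b, hb, rfl⟩ := h.fact g
    have h1 : b * k * b⁻¹ ∈ X := hY ((mem_normalizer_iff.mp (hBY hb) k).mp hk)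
    have := mul_mem (mul_mem (hA ha) h1) (inv_mem (hA ha))
    simpa [mul_assoc] using this
  rcases h.eq_bot_or_top normalClosure_normal with e | e
  · exact hne (eq_bot_iff.mpr (e ▸ le_normalClosure))
  · exact hX (top_le_iff.mp (e ▸ hle))

theorem eq_one_of_central {X : Subgroup G} (hA : A ≤ X) (hX : X ≠ ⊤) {z : G} (hzX : z ∈ X)
    (hz : ∀ b ∈ B, b * z = z * b) : z = 1 := by
  refine zpowers_eq_bot.mp (h.eq_bot_of_normal hA hX (zpowers_le.mpr hzX) fun b hb => ?_)
  refine (centralizer_le_normalizer _) ?_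
  rw [mem_centralizer_iff]
  rintro _ ⟨i, rfl⟩
  exact ((show Commute b z from hz b hb).zpow_right i).symm.eq

/-! #### The Sylow subgroups of `A` -/

omit h in
theorem commute_of_coprime {A : Subgroup G} (hA : Group.IsNilpotent A) {x y : G} (hx : x ∈ A)
    (hy : y ∈ A) (hxy : (orderOf x).Coprime (orderOf y)) : x * y = y * x := by
  haveI := hA
  exact congrArg Subtype.val (Transfer.commute_of_coprime_orderOf (x := (⟨x, hx⟩ : A))
    (y := (⟨y, hy⟩ : A)) (by rwa [orderOf_mk, orderOf_mk])).eq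

theorem exists_sylowA {r : ℕ} [hr : Fact r.Prime] (hrA : r ∣ Nat.card A) :
    ∃ R : Subgroup G, R ≤ A ∧ R ≠ ⊥ ∧ IsPGroup r R ∧ A ≤ normalizer (R : Set G) ∧
      (∀ x ∈ A, (∃ k, orderOf x = r ^ k) → x ∈ R) ∧ ¬ r ∣ R.index := by
  haveI := h.nilA
  obtain ⟨P⟩ := (inferInstance : Nonempty (Sylow r A))
  have hPn : (P : Subgroup A).Normal :=
    (Group.isNilpotent_of_finite_tfae.out 0 3 rfl rfl).mp h.nilA r inferInstance P
  refine ⟨(P : Subgroup A).map A.subtype, map_subtype_le _, fun e => ?_, P.2.map _, ?_, ?_, ?_⟩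
  · have hP : (P : Subgroup A) = ⊥ := map_eq_bot_iff_of_injective _ A.subtype_injective |>.mp e
    have := P.not_dvd_index
    rw [hP, index_bot] at this
    exact this hrA
  · have h1 := le_normalizer_map (H := (P : Subgroup A)) A.subtype
    rwa [normalizer_eq_top, ← MonoidHom.range_eq_map, range_subtype] at h1
  · rintro x hx ⟨k, hk⟩
    have hp : IsPGroup r (zpowers (⟨x, hx⟩ : A)) := IsPGroup.of_card (n := k) (by
      rw [Nat.card_zpowers, orderOf_mk, hk])
    have hle : zpowers (⟨x, hx⟩ : A) ≤ (P : Subgroup A) :=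
      P.3 (hp.to_sup_of_normal_right P.2) le_sup_right ▸ le_sup_left
    exact ⟨⟨x, hx⟩, hle (mem_zpowers _), rfl⟩
  · rw [index_map_subtype, h.index_eq]
    intro hd
    rcases hr.out.dvd_mul.mp hd with h1 | h1
    · exact P.not_dvd_index h1
    · exact hr.out.ne_one (Nat.Coprime.eq_one_of_dvd (h.cop.coprime_dvd_left hrA) h1)

theorem exists_central {r : ℕ} [hr : Fact r.Prime] (hrA : r ∣ Nat.card A) :
    ∃ a ∈ A, orderOf a = r ∧ ∀ x ∈ A, x * a = a * x := by
  obtain ⟨R, hRA, hR1, hRp, hAR, hmem, -⟩ := h.exists_sylowA hrA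
  haveI := hRp
  obtain ⟨z, hz1, hzc⟩ : ∃ z : R, z ≠ 1 ∧ z ∈ center R := by
    haveI : Nontrivial R := (nontrivial_iff_ne_bot R).mpr hR1
    obtain ⟨z, -, h1, h2⟩ := Uniq.exists_central_mem hRp (⊤ : Subgroup R) top_ne_bot
    exact ⟨z, h1, h2⟩
  obtain ⟨k, hk⟩ := IsPGroup.iff_orderOf.mp hRp z
  have hk0 : k ≠ 0 := fun h0 => hz1 (orderOf_eq_one_iff.mp (by rw [hk, h0, pow_zero]))
  set a : G := (z : G) ^ r ^ (k - 1) with ha
  have hord : orderOf a = r := by
    rw [ha, orderOf_pow' _ (pow_ne_zero _ hr.out.ne_zero), orderOf_coe, hk,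
      Nat.gcd_eq_right (pow_dvd_pow r (by omega)), Nat.pow_div (by omega) hr.out.pos,
      show k - (k - 1) = 1 by omega, pow_one]
  refine ⟨a, pow_mem (hRA z.2) _, hord, fun x hx => ?_⟩
  obtain ⟨i, j, e, hi, hj⟩ := exists_split (x := x) (m := r ^ (orderOf x).factorization r)
    (n := orderOf x / r ^ (orderOf x).factorization r)
    (Nat.Coprime.pow_left _ (Nat.coprime_ordCompl hr.out (orderOf_pos x).ne'))
    (by rw [Nat.mul_div_cancel' (Nat.ordProj_dvd _ _)]; exact pow_orderOf_eq_one x)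
  have hxi : x ^ i ∈ R := by
    obtain ⟨l, -, hl⟩ := (Nat.dvd_prime_pow hr.out).mp (orderOf_dvd_of_pow_eq_one hi)
    exact hmem _ (zpow_mem hx i) ⟨l, hl⟩
  have h1 : x ^ i * a = a * x ^ i :=
    ((show Commute (x ^ i) (z : G) from congrArg Subtype.val (mem_center_iff.mp hzc ⟨_, hxi⟩)).pow_right _).eq
  have h2 : x ^ j * a = a * x ^ j := by
    refine commute_of_coprime h.nilA (zpow_mem hx j) (pow_mem (hRA z.2) _) ?_
    rw [hord]
    exact (Nat.coprime_ordCompl hr.out (orderOf_pos x).ne').symm.coprime_dvd_left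
      (orderOf_dvd_of_pow_eq_one hj)
  rw [e, mul_assoc, h2, ← mul_assoc, h1, mul_assoc]

theorem prime_not_dvd {q : ℕ} (hq : q.Prime) (hqB : q ∣ Nat.card B) : ¬ q ∣ Nat.card A :=
  fun hqA => hq.ne_one (Nat.Coprime.eq_one_of_dvd (h.cop.coprime_dvd_left hqA) hqB)

/-- An element killed by `|A|` that normalises `A` lies in `A`. -/
theorem mem_A {x : G} (hx : x ∈ normalizer (A : Set G)) (hx1 : x ^ Nat.card A = 1) : x ∈ A :=
  mem_of_pow_card le_rfl
    (h.cop_index.coprime_dvd_right ⟨_, (relIndex_mul_index le_normalizer).symm⟩) hx hx1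

omit h in
theorem pow_card_conj {A : Subgroup G} {x : G} (hx : x ∈ A) (g : G) :
    (g * x * g⁻¹) ^ Nat.card A = 1 := by
  rw [conj_pow, show x ^ Nat.card A = 1 from congrArg Subtype.val (pow_card_eq_one' (x := (⟨x, hx⟩ : A)))]
  simp

/-- No proper subgroup contains a Sylow subgroup of `A` and one of `B`. -/
theorem no_pair {X R S : Subgroup G} (hX : X ≠ ⊤) (hR : R ≤ A) (hR1 : R ≠ ⊥)
    (hRh : (Nat.card R).Coprime R.index) (hAR : A ≤ normalizer (R : Set G)) (hS : S ≤ B) (hS1 : S ≠ ⊥)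
    (hSh : (Nat.card S).Coprime S.index) (hBS : B ≤ normalizer (S : Set G)) (hRX : R ≤ X) (hSX : S ≤ X) :
    False := by
  set J := R ⊔ S with hJ
  set L := normalizer (J : Set G) with hL
  have hJL : J ≤ L := le_normalizer
  have hJtop : J ≠ ⊤ := fun e => hX (top_le_iff.mp (e ▸ sup_le hRX hSX))
  have hLtop : L ≠ ⊤ := h.normalizer_ne_top (fun e => hR1 (le_bot_iff.mp (e ▸ le_sup_left))) hJtop
  have hfac : ∀ g ∈ L, ∃ a ∈ A ⊓ L, ∃ b ∈ B ⊓ L, g = a * b := by
    intro g hg
    obtain ⟨a, ha, b, hb, e⟩ := Cfsg.Agent.S0562.result A B R S h.fact hR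
      ((normal_subgroupOf_iff_le_normalizer hR).mpr hAR) hS
      ((normal_subgroupOf_iff_le_normalizer hS).mpr hBS) g hg
    exact ⟨a, ⟨ha.2, ha.1⟩, b, ⟨hb.2, hb.1⟩, e⟩
  haveI := h.ih L hLtop hfac
  have hRL : R ≤ L := le_sup_left.trans hJL
  have hSL : S ≤ L := le_sup_right.trans hJL
  obtain ⟨T, hT⟩ := Cfsg.Agent.S0561.result ((A ⊓ L).subgroupOf L) ((B ⊓ L).subgroupOf L)
    (R.subgroupOf L) (S.subgroupOf L)
    (fun g => by
      obtain ⟨a, ha, b, hb, e⟩ := hfac g g.2
      exact ⟨⟨a, ha.2⟩, ha, ⟨b, hb.2⟩, hb, Subtype.ext e⟩)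
    (fun x hx => ⟨hR hx, x.2⟩)
    ((normal_subgroupOf_iff_le_normalizer (show R.subgroupOf L ≤ (A ⊓ L).subgroupOf L from
      fun x hx => ⟨hR hx, x.2⟩)).mpr fun x hx =>
      mem_normalizer_iff.mpr fun y => mem_normalizer_iff.mp (hAR hx.1) y)
    (fun x hx => ⟨hS hx, x.2⟩)
    ((normal_subgroupOf_iff_le_normalizer (show S.subgroupOf L ≤ (B ⊓ L).subgroupOf L from
      fun x hx => ⟨hS hx, x.2⟩)).mpr fun x hx =>
      mem_normalizer_iff.mpr fun y => mem_normalizer_iff.mp (hBS hx.1) y)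
    (by rw [card_subgroupOf hRL]; exact hRh.coprime_dvd_right ⟨_, (relIndex_mul_index hRL).symm⟩)
    (by rw [card_subgroupOf hSL]; exact hSh.coprime_dvd_right ⟨_, (relIndex_mul_index hSL).symm⟩) 1 1
  rw [map_one, one_smul, one_smul] at hT
  have hTG : ((T.map L.subtype : Subgroup G) : Set G) = (R : Set G) * (S : Set G) := by
    rw [coe_map, hT, Set.image_mul]
    congr 1
    · rw [← coe_map, map_subgroupOf_eq_of_le hRL]
    · rw [← coe_map, map_subgroupOf_eq_of_le hSL]
  obtain ⟨N, hN, hNt, hNl⟩ := Cfsg.Agent.S0566.result R S hR1 hS1 fun x => by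
    obtain ⟨a, ha, b, hb, rfl⟩ := h.fact x
    refine ⟨MulAut.conj a • T.map L.subtype, fun e => hLtop ?_, ?_⟩
    · rw [← top_le_iff]
      calc (⊤ : Subgroup G) = MulAut.conj a⁻¹ • (⊤ : Subgroup G) := (conj_smul_of_normal ⊤ a⁻¹).symm
        _ = T.map L.subtype := by rw [← e, conj_inv_smul_smul]
        _ ≤ L := map_subtype_le T
    · rw [conj_smul_mul, conj_smul_eq_self (hBS hb), Subgroup.coe_pointwise_smul, hTG, smul_mul',
        ← Subgroup.coe_pointwise_smul, conj_smul_eq_self (hAR ha), Subgroup.coe_pointwise_smul]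
  rcases h.eq_bot_or_top hN with e | e
  · rcases hNl with h' | h'
    · exact hR1 (le_bot_iff.mp (e ▸ h'))
    · exact hS1 (le_bot_iff.mp (e ▸ h'))
  · exact hNt e

omit h in
theorem hall_of_pgroup {r : ℕ} [hr : Fact r.Prime] {R : Subgroup G} (hR : IsPGroup r R)
    (hi : ¬ r ∣ R.index) : (Nat.card R).Coprime R.index := by
  obtain ⟨e, he⟩ := IsPGroup.iff_card.mp hR
  rw [he]
  exact Nat.Coprime.pow_left e (hr.out.coprime_iff_not_dvd.mpr hi)

omit h in
theorem coprime_orderOf_of_prime_ne {q s : ℕ} [hs : Fact s.Prime] (hq : q.Prime) (hne : s ≠ q)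
    {S : Subgroup G} (hS : IsPGroup s S) {x y : G} (hx : x ∈ S) (hy : orderOf y = q) :
    (orderOf x).Coprime (orderOf y) := by
  obtain ⟨k, hk⟩ := IsPGroup.iff_orderOf.mp hS ⟨x, hx⟩
  rw [orderOf_mk] at hk
  rw [hk, hy]
  exact Nat.Coprime.pow_left k ((Nat.coprime_primes hs.out hq).mpr hne)

/-- Proper overgroups of `A` normalise it. -/
theorem le_normalizerA {X : Subgroup G} (hA : A ≤ X) (hX : X ≠ ⊤) :
    X ≤ normalizer (A : Set G) := by
  classical
  haveI : Group.IsSolvable X := h.solvable_of_le hA hX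
  set A' := A.subgroupOf X with hA'
  set D' := B.subgroupOf X with hD'
  have hAi : A'.index ∣ Nat.card B := h.relIndex_dvd (h.factorised_of_le hA)
  have hDi : D'.index ∣ Nat.card A := h.symm.relIndex_dvd fun g hg => by
    obtain ⟨a, ha, b, hb, e⟩ := h.factorised_of_le hA g⁻¹ (inv_mem hg)
    exact ⟨b⁻¹, inv_mem hb, a⁻¹, inv_mem ha, by rw [← mul_inv_rev, ← e, inv_inv]⟩
  haveI hnA' : Group.IsNilpotent A' := by
    haveI := h.nilA
    exact Group.nilpotent_of_mulEquiv (subgroupOfEquivOfLe hA).symm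
  set F := fittingSubgroup X with hF
  haveI hFnil : Group.IsNilpotent F := fittingSubgroup_isNilpotent
  haveI hFn : F.Normal := by rw [hF, fittingSubgroup_eq_iSup_pCore]; infer_instance
  have hFA : F ≤ A' := by
    refine le_of_normal_coprime (Nat.coprime_of_dvd fun q hq hqF hqi => ?_)
    haveI := Fact.mk hq
    have hqB := hqi.trans hAi
    have hK : (pCore q X).map X.subtype ≤ B := by
      have h1 : pCore q X ≤ D' := le_of_normal_pgroup (isPGroup_pCore q) fun hd =>
        h.prime_not_dvd hq hqB (hd.trans hDi)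
      exact (map_mono h1).trans ((subgroupOf_map_subtype _ _).le.trans inf_le_left)
    have hK' : A ≤ normalizer (((pCore q X).map X.subtype : Subgroup G) : Set G) := by
      have h1 := le_normalizer_map (H := pCore q X) X.subtype
      rw [normalizer_eq_top, ← MonoidHom.range_eq_map, range_subtype] at h1
      exact hA.trans h1
    have hbot := (map_eq_bot_iff_of_injective _ X.subtype_injective).mp (h.eq_bot_of_le_B hK hK')
    obtain ⟨x, hx⟩ := exists_prime_orderOf_dvd_card' q hqF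
    obtain ⟨P, hP⟩ := (IsPGroup.of_card (G := zpowers x) (n := 1) (by
      rw [Nat.card_zpowers, hx, pow_one])).exists_le_sylow
    haveI : (P : Subgroup F).Normal :=
      (Group.isNilpotent_of_finite_tfae.out 0 3 rfl rfl).mp hFnil q inferInstance P
    haveI : (P : Subgroup F).Characteristic := P.characteristic_of_normal inferInstance
    haveI : ((P : Subgroup F).map F.subtype).Normal := ConjAct.normal_of_characteristic_of_normal
    have hx' := (le_pCore (P.2.map F.subtype)) (mem_map_of_mem F.subtype (hP (mem_zpowers x)))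
    rw [hbot, mem_bot] at hx'
    rw [show x = 1 from Subtype.ext hx', orderOf_one] at hx
    exact hq.ne_one hx.symm
  -- the two centralizers
  have key : ∀ r : ℕ, r.Prime → r ∣ Nat.card A → ∀ x ∈ A', (orderOf x).Coprime r → x ∈ F := by
    intro r hr hrA x hxA hxr
    haveI := Fact.mk hr
    let S₁ : Set X := {f | f ∈ F ∧ ∃ k, orderOf f = r ^ k}
    let S₂ : Set X := {f | f ∈ F ∧ (orderOf f).Coprime r}
    have hnorm : ∀ S : Set X, (∀ g : X, ∀ f ∈ S, g * f * g⁻¹ ∈ S) → (centralizer S).Normal := by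
      intro S hS
      refine ⟨fun c hc g => ?_⟩
      rw [mem_centralizer_iff] at hc ⊢
      intro f hf
      have h1 := hc _ (hS g⁻¹ f hf)
      have h2 := congrArg (fun t => g * t * g⁻¹) h1
      simpa [mul_assoc] using h2
    have hord : ∀ (g f : X), orderOf (g * f * g⁻¹) = orderOf f := fun g f =>
      orderOf_injective (MulAut.conj g).toMonoidHom (MulAut.conj g).injective f
    haveI : (centralizer S₁).Normal := hnorm _ fun g f hf =>
      ⟨hFn.conj_mem f hf.1 g, by rw [hord]; exact hf.2⟩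
    haveI : (centralizer S₂).Normal := hnorm _ fun g f hf =>
      ⟨hFn.conj_mem f hf.1 g, by rw [hord]; exact hf.2⟩
    have hcomm : ∀ u ∈ A', ∀ v ∈ A', (orderOf u).Coprime (orderOf v) → u * v = v * u := by
      intro u hu v hv huv
      refine Subtype.ext ?_
      exact commute_of_coprime h.nilA hu hv (by rwa [orderOf_coe, orderOf_coe])
    have hboth : ∀ c ∈ centralizer S₁, c ∈ centralizer S₂ → c ∈ F := by
      intro c hc1 hc2
      refine centralizer_fittingSubgroup_le (G := X) (mem_centralizer_iff.mpr fun f hf => ?_)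
      obtain ⟨i, j, e, hi, hj⟩ := exists_split (x := f) (m := r ^ (orderOf f).factorization r)
        (n := orderOf f / r ^ (orderOf f).factorization r)
        (Nat.Coprime.pow_left _ (Nat.coprime_ordCompl hr (orderOf_pos f).ne'))
        (by rw [Nat.mul_div_cancel' (Nat.ordProj_dvd _ _)]; exact pow_orderOf_eq_one f)
      have h1 : f ^ i * c = c * f ^ i := by
        obtain ⟨l, -, hl⟩ := (Nat.dvd_prime_pow hr).mp (orderOf_dvd_of_pow_eq_one hi)
        exact mem_centralizer_iff.mp hc1 _ ⟨zpow_mem hf i, l, hl⟩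
      have h2 : f ^ j * c = c * f ^ j := mem_centralizer_iff.mp hc2 _ ⟨zpow_mem hf j,
        (Nat.coprime_ordCompl hr (orderOf_pos f).ne').symm.coprime_dvd_left (orderOf_dvd_of_pow_eq_one hj)⟩
      rw [e, mul_assoc, h2, ← mul_assoc, h1, mul_assoc]
    obtain ⟨R, hRA, hR1, hRp, hAR, hRmem, hRi⟩ := h.exists_sylowA hrA
    have hK1 : centralizer S₁ ≤ A' := by
      refine le_of_normal_coprime (Nat.coprime_of_dvd fun q hq hqK hqi => ?_)
      haveI := Fact.mk hq
      have hqA := h.prime_not_dvd hq (hqi.trans hAi)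
      -- an element of order `q` in `K₁ ∩ B`
      obtain ⟨d, hd⟩ : ∃ d : ↥(centralizer S₁ ⊓ D'), orderOf d = q := by
        refine exists_prime_orderOf_dvd_card' q ?_
        have h1 := (D'.subgroupOf (centralizer S₁)).index_mul_card
        rw [card_subgroupOf_inf, inf_comm] at h1
        rw [← h1] at hqK
        exact (hq.dvd_mul.mp hqK).resolve_left fun h2 =>
          hqA ((h2.trans (relIndex_normal_dvd_index D' (centralizer S₁))).trans hDi)
      obtain ⟨hd1, hd2⟩ := mem_inf.mp d.2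
      have hdo : orderOf ((d : X) : G) = q := by rw [orderOf_coe, orderOf_coe, hd]
      obtain ⟨s, hs, hsB, hsq⟩ := h.twoB q
      haveI := Fact.mk hs
      obtain ⟨S, hSB, hS1, hSp, hBS, -, hSi⟩ := h.symm.exists_sylowA hsB
      have hd0 : ((d : X) : G) ≠ 1 := fun e => hq.ne_one (by rw [← hdo, e, orderOf_one])
      refine h.no_pair (h.symm.centralizer_ne_top hd0 hd2) hRA hR1 (hall_of_pgroup hRp hRi) hAR hSB hS1
        (hall_of_pgroup hSp hSi) hBS (fun y hy => ?_) fun y hy => ?_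
      · rw [mem_centralizer_singleton_iff]
        let y' : X := ⟨y, hA (hRA hy)⟩
        have hyo : ∃ k, orderOf y' = r ^ k := by
          obtain ⟨k, hk⟩ := IsPGroup.iff_orderOf.mp hRp ⟨y, hy⟩
          exact ⟨k, by rw [← orderOf_coe, ← hk, ← orderOf_coe]⟩
        have hyS2 : y' ∈ centralizer S₂ := by
          refine mem_centralizer_iff.mpr fun f hf => hcomm f (hFA hf.1) y' (hRA hy) ?_
          obtain ⟨k, hk⟩ := hyo
          rw [hk]; exact hf.2.pow_right k
        set c := (d : X) * y' * (d : X)⁻¹ * y'⁻¹ with hc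
        have hcF : c ∈ F := hboth c
          (by
            rw [hc, mul_assoc, mul_assoc, ← mul_assoc y']
            exact mul_mem hd1 (Subgroup.Normal.conj_mem inferInstance _ (inv_mem hd1) y'))
          (mul_mem (Subgroup.Normal.conj_mem inferInstance _ hyS2 (d : X)) (inv_mem hyS2))
        have hdy : (d : X) * y' * (d : X)⁻¹ = c * y' := by rw [hc, inv_mul_cancel_right]
        have hcR : (c : G) ∈ R := by
          have h1 : ((c * y' : X) : G) ∈ R := by
            refine hRmem _ (A.mul_mem (hFA hcF) (hRA hy)) ?_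
            rw [orderOf_coe, ← hdy, hord]
            exact hyo
          have := R.mul_mem h1 (R.inv_mem hy)
          simpa [y'] using this
        have hcS : c ∈ S₁ := by
          obtain ⟨k, hk⟩ := IsPGroup.iff_orderOf.mp hRp ⟨c, hcR⟩
          exact ⟨hcF, k, by rw [← orderOf_coe, ← hk, ← orderOf_coe]⟩
        have hdc : c * (d : X) = (d : X) * c := mem_centralizer_iff.mp hd1 c hcS
        have hpow : ∀ n : ℕ, (d : X) ^ n * y' * ((d : X) ^ n)⁻¹ = c ^ n * y' := by
          intro n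
          induction n with
          | zero => simp
          | succ n ihn =>
            calc (d : X) ^ (n + 1) * y' * ((d : X) ^ (n + 1))⁻¹
                = (d : X) * ((d : X) ^ n * y' * ((d : X) ^ n)⁻¹) * (d : X)⁻¹ := by rw [pow_succ']; group
              _ = ((d : X) * c ^ n) * y' * (d : X)⁻¹ := by rw [ihn]; group
              _ = c ^ n * ((d : X) * y' * (d : X)⁻¹) := by
                rw [((show Commute c (d : X) from hdc).pow_left n).symm.eq]; group
              _ = _ := by rw [hdy, pow_succ]; group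
        have hcq : c ^ q = 1 := by
          have h1 := hpow q
          rw [show (d : X) ^ q = 1 by rw [← orderOf_coe] at hd; rw [← hd]; exact pow_orderOf_eq_one _] at h1
          simpa using h1
        have hc1 : c = 1 := by
          obtain ⟨-, k, hk⟩ := hcS
          refine eq_one_of_pow_coprime (m := r ^ k) (n := q) (Nat.Coprime.pow_left k
            ((Nat.coprime_primes hr hq).mpr fun e => hqA (e ▸ hrA))) (hk ▸ pow_orderOf_eq_one c) hcq
        rw [hc1, one_mul, mul_inv_eq_iff_eq_mul] at hdy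
        exact (congrArg Subtype.val hdy).symm
      · rw [mem_centralizer_singleton_iff]
        exact commute_of_coprime h.nilB (hSB hy) hd2 (coprime_orderOf_of_prime_ne hq hsq hSp hy hdo)
    haveI : Group.IsNilpotent (centralizer S₁) :=
      Group.nilpotent_of_mulEquiv (G := (centralizer S₁).subgroupOf A') (subgroupOfEquivOfLe hK1)
    refine le_fittingSubgroup (N := centralizer S₁) inferInstance (mem_centralizer_iff.mpr fun f hf => ?_)
    obtain ⟨k, hk⟩ := hf.2
    exact hcomm f (hFA hf.1) x hxA (by rw [hk]; exact hxr.symm.pow_left k)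
  have hAF : A' ≤ F := by
    intro x hx
    obtain ⟨r, hr, hrA, -⟩ := h.twoA 0
    obtain ⟨r', hr', hrA', hne⟩ := h.twoA r
    obtain ⟨i, j, e, hi, hj⟩ := exists_split (x := x) (m := r ^ (orderOf x).factorization r)
      (n := orderOf x / r ^ (orderOf x).factorization r)
      (Nat.Coprime.pow_left _ (Nat.coprime_ordCompl hr (orderOf_pos x).ne'))
      (by rw [Nat.mul_div_cancel' (Nat.ordProj_dvd _ _)]; exact pow_orderOf_eq_one x)
    rw [e]
    exact mul_mem (key r' hr' hrA' _ (zpow_mem hx i) (((Nat.coprime_primes hr hr').mpr hne.symm).pow_left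
        _ |>.coprime_dvd_left (orderOf_dvd_of_pow_eq_one hi)))
      (key r hr hrA _ (zpow_mem hx j) ((Nat.coprime_ordCompl hr (orderOf_pos x).ne').symm.coprime_dvd_left
        (orderOf_dvd_of_pow_eq_one hj)))
  haveI : A'.Normal := (le_antisymm hAF hFA) ▸ hFn
  exact (normal_subgroupOf_iff_le_normalizer hA).mp this

theorem M_ne_top : normalizer (A : Set G) ≠ ⊤ := h.normalizer_ne_top h.neA h.neTop

/-- Conjugation of a central element of `A` into `A` happens in the normalizer of `A`. -/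
theorem mem_M_of_central {a : G} (ha : a ∈ A) (hac : ∀ x ∈ A, x * a = a * x) (ha1 : a ≠ 1) {g : G}
    (hg : g * a * g⁻¹ ∈ A) : g ∈ normalizer (A : Set G) := by
  wlog hprime : (orderOf a).Prime generalizing a
  · obtain ⟨r, hr, hrd⟩ := Nat.exists_prime_and_dvd (mt orderOf_eq_one_iff.mp ha1)
    have ho : orderOf (a ^ (orderOf a / r)) = r := orderOf_pow_orderOf_div (orderOf_pos a).ne' hrd
    refine this (pow_mem ha _) (fun x hx => ((show Commute x a from hac x hx).pow_right _).eq)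
      (fun e => hr.ne_one (by rw [← ho, e, orderOf_one])) ?_ (ho ▸ hr)
    rw [← conj_pow]; exact pow_mem hg _
  haveI := Fact.mk hprime
  obtain ⟨p, hp, hpA, hpr⟩ := h.twoA (orderOf a)
  haveI := Fact.mk hp
  obtain ⟨P, hPA, hP1, hPp, hAP, hPmem, -⟩ := h.exists_sylowA hpA
  have hCM : centralizer ({a} : Set G) ≤ normalizer (A : Set G) :=
    h.le_normalizerA (fun x hx => mem_centralizer_singleton_iff.mpr (hac x hx))
      (h.centralizer_ne_top ha1 ha)
  have hle : MulAut.conj g⁻¹ • P ≤ P := by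
    intro y hy
    rw [mem_conj_smul, inv_inv] at hy
    have hcop : (orderOf (g * y * g⁻¹)).Coprime (orderOf (g * a * g⁻¹)) :=
      coprime_orderOf_of_prime_ne hprime hpr hPp hy
        (orderOf_injective (MulAut.conj g).toMonoidHom (MulAut.conj g).injective a)
    have hc := commute_of_coprime h.nilA (hPA hy) hg hcop
    have hyC : y ∈ centralizer ({a} : Set G) := by
      rw [mem_centralizer_singleton_iff]
      simpa [mul_assoc] using congrArg (fun t => g⁻¹ * t * g) hc
    obtain ⟨k, hk⟩ := IsPGroup.iff_orderOf.mp hPp ⟨_, hy⟩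
    rw [orderOf_mk] at hk
    have hk' : orderOf y = p ^ k :=
      (orderOf_injective (MulAut.conj g).toMonoidHom (MulAut.conj g).injective y).symm.trans hk
    refine hPmem y (h.mem_A (hCM hyC) ?_) ⟨k, hk'⟩
    simpa [mul_assoc] using pow_card_conj (hPA hy) g⁻¹
  have hgP : g ∈ normalizer (P : Set G) := by
    refine mem_normalizer_of_conj_smul_eq ?_
    conv_lhs => rw [← eq_of_le_of_card_ge hle (card_conj_smul g⁻¹ P).ge]
    rw [conj_smul_inv_smul]
  exact h.le_normalizerA hAP (h.normalizer_ne_top hP1 fun e => h.neTop (top_le_iff.mp (e ▸ hPA))) hgP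

theorem not_mem_normalizerA {b : G} (hb : ∀ y ∈ B, y * b = b * y) (hbn : b ∈ normalizer (A : Set G)) :
    b = 1 :=
  h.eq_one_of_central le_normalizer h.M_ne_top hbn hb

/-- No proper subgroup contains a central element of `A` and a conjugate of a Sylow subgroup of `B`. -/
theorem no_central_sylow {a : G} (ha : a ∈ A) (hac : ∀ x ∈ A, x * a = a * x) (ha1 : a ≠ 1) {s : ℕ}
    [hs : Fact s.Prime] (hsB : s ∣ Nat.card B) {S : Subgroup G} (hSB : S ≤ B) (hS1 : S ≠ ⊥)
    (hSp : IsPGroup s S) (hBS : B ≤ normalizer (S : Set G)) (hSi : ¬ s ∣ S.index)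
    {X : Subgroup G} (hX : X ≠ ⊤) (haX : a ∈ X) {g : G} (hSX : MulAut.conj g • S ≤ X) : False := by
  obtain ⟨a₁, ha₁, b₁, hb₁, rfl⟩ := h.fact g
  rw [conj_smul_mul, conj_smul_eq_self (hBS hb₁)] at hSX
  set X' := MulAut.conj a₁⁻¹ • X with hX'
  have haX' : a ∈ X' := by
    rw [hX', mem_conj_smul, inv_inv, hac a₁ ha₁, mul_inv_cancel_right]; exact haX
  have hSX' : S ≤ X' := by
    rw [hX', ← conj_inv_smul_smul a₁ S]; exact pointwise_smul_le_pointwise_smul_iff.mpr hSX
  have hX'top : X' ≠ ⊤ := fun e => hX (by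
    rw [← conj_smul_inv_smul a₁ X, ← hX', e, conj_smul_of_normal])
  -- the factorised subgroup
  set J := zpowers a ⊔ S with hJ
  set L := normalizer (J : Set G) with hL
  have hJtop : J ≠ ⊤ := fun e => hX'top (top_le_iff.mp (e ▸ sup_le (zpowers_le.mpr haX') hSX'))
  have hLtop : L ≠ ⊤ := h.normalizer_ne_top (fun e => hS1 (le_bot_iff.mp (e ▸ le_sup_right))) hJtop
  have haA : A ≤ normalizer ((zpowers a : Subgroup G) : Set G) := fun x hx => by
    refine centralizer_le_normalizer _ (mem_centralizer_iff.mpr ?_)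
    rintro _ ⟨i, rfl⟩
    exact ((show Commute x a from hac x hx).zpow_right i).symm.eq
  have hfac : ∀ x ∈ L, ∃ u ∈ A ⊓ L, ∃ v ∈ B ⊓ L, x = u * v := by
    intro x hx
    obtain ⟨u, hu, v, hv, e⟩ := Cfsg.Agent.S0562.result A B (zpowers a) S h.fact (zpowers_le.mpr ha)
      ((normal_subgroupOf_iff_le_normalizer (zpowers_le.mpr ha)).mpr haA) hSB
      ((normal_subgroupOf_iff_le_normalizer hSB).mpr hBS) x hx
    exact ⟨u, ⟨hu.2, hu.1⟩, v, ⟨hv.2, hv.1⟩, e⟩
  haveI := h.ih L hLtop hfac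
  have haL : a ∈ L := le_normalizer (mem_sup_left (mem_zpowers a))
  have hSL : S ≤ L := fun x hx => le_normalizer (mem_sup_right hx)
  have hAi : (A.subgroupOf L).index ∣ Nat.card B := h.relIndex_dvd hfac
  have hBi : (B.subgroupOf L).index ∣ Nat.card A := h.symm.relIndex_dvd fun x hx => by
    obtain ⟨u, hu, v, hv, e⟩ := hfac x⁻¹ (inv_mem hx)
    exact ⟨v⁻¹, inv_mem hv, u⁻¹, inv_mem hu, by rw [← mul_inv_rev, ← e, inv_inv]⟩
  haveI : IsPGroup s S := hSp
  -- `O_s(L) = 1`
  have hcentral : ∀ z ∈ S, (∀ y ∈ S, y * z = z * y) → ∀ y ∈ B, y * z = z * y := by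
    intro z hz hzS y hy
    obtain ⟨R, hRB, -, hRp, -, hRmem, -⟩ := h.symm.exists_sylowA hsB
    obtain ⟨i, j, e, hi, hj⟩ := exists_split (x := y) (m := s ^ (orderOf y).factorization s)
      (n := orderOf y / s ^ (orderOf y).factorization s)
      (Nat.Coprime.pow_left _ (Nat.coprime_ordCompl hs.out (orderOf_pos y).ne'))
      (by rw [Nat.mul_div_cancel' (Nat.ordProj_dvd _ _)]; exact pow_orderOf_eq_one y)
    have hyi : y ^ i ∈ S := by
      have hle : S ≤ R := fun w hw => hRmem w (hSB hw) (by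
        obtain ⟨k, hk⟩ := IsPGroup.iff_orderOf.mp hSp ⟨w, hw⟩
        exact ⟨k, by rwa [orderOf_mk] at hk⟩)
      obtain ⟨l, -, hl⟩ := (Nat.dvd_prime_pow hs.out).mp (orderOf_dvd_of_pow_eq_one hi)
      obtain ⟨e', he'⟩ := IsPGroup.iff_card.mp hRp
      have : R ≤ S := by
        rw [← relIndex_eq_one]
        exact Nat.eq_one_of_dvd_coprimes ((hs.out.coprime_iff_not_dvd.mpr hSi).pow_left e')
          (he' ▸ index_dvd_card _) ⟨_, (relIndex_mul_index hle).symm⟩
      exact this (hRmem _ (zpow_mem hy i) ⟨l, hl⟩)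
    have h2 : y ^ j * z = z * y ^ j := by
      refine commute_of_coprime h.nilB (zpow_mem hy j) (hSB hz) ?_
      obtain ⟨k, hk⟩ := IsPGroup.iff_orderOf.mp hSp ⟨z, hz⟩
      rw [orderOf_mk] at hk
      rw [hk]
      exact ((Nat.coprime_ordCompl hs.out (orderOf_pos y).ne').symm.coprime_dvd_left
        (orderOf_dvd_of_pow_eq_one hj)).pow_right k
    rw [e, mul_assoc, h2, ← mul_assoc, hzS _ hyi, mul_assoc]
  have hOs : pCore s L = ⊥ := by
    by_contra hne
    have hKS : pCore s L ≤ S.subgroupOf L := le_of_normal_pgroup (isPGroup_pCore s) fun hd =>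
      hSi (hd.trans ⟨_, (relIndex_mul_index hSL).symm⟩)
    set K := (pCore s L).map L.subtype with hK
    have hKS' : K ≤ S := (map_mono hKS).trans (map_subgroupOf_eq_of_le hSL).le
    have hLK : L ≤ normalizer (K : Set G) := by
      have h1 := le_normalizer_map (H := pCore s L) L.subtype
      rwa [normalizer_eq_top, ← MonoidHom.range_eq_map, range_subtype] at h1
    haveI : (K.subgroupOf S).Normal :=
      (normal_subgroupOf_iff_le_normalizer hKS').mpr (hSL.trans hLK)
    obtain ⟨z, hz, hz1, hzc⟩ := Uniq.exists_central_mem hSp (K.subgroupOf S) (fun e => hne (by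
      rw [← map_eq_bot_iff_of_injective _ L.subtype_injective, ← hK, ← map_subgroupOf_eq_of_le hKS', e,
        Subgroup.map_bot]))
    have hzB := hcentral z z.2 fun y hy => congrArg Subtype.val (mem_center_iff.mp hzc ⟨y, hy⟩)
    have haz : a * (z : G) * a⁻¹ ∈ B := hSB (hKS' ((mem_normalizer_iff.mp (hLK haL) _).mp hz))
    have haN := h.symm.mem_M_of_central (hSB z.2) hzB (fun e => hz1 (Subtype.ext e)) haz
    exact ha1 (h.symm.not_mem_normalizerA hac haN)
  -- a central element `b` of order `s`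
  obtain ⟨b, hbS, hbord, hbB⟩ : ∃ b ∈ S, orderOf b = s ∧ ∀ y ∈ B, y * b = b * y := by
    obtain ⟨b, hb, hbo, hbc⟩ := h.symm.exists_central hsB
    refine ⟨b, ?_, hbo, hbc⟩
    haveI : (S.subgroupOf B).Normal := (normal_subgroupOf_iff_le_normalizer hSB).mpr hBS
    have hle : zpowers (⟨b, hb⟩ : B) ≤ S.subgroupOf B := by
      haveI : (zpowers (⟨b, hb⟩ : B)).Normal := Thompson.normal_of_le_center (zpowers_le.mpr
        (mem_center_iff.mpr fun y => Subtype.ext (hbc y y.2)))
      refine le_of_normal_pgroup (IsPGroup.of_card (p := s) (n := 1) (by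
        rw [Nat.card_zpowers, orderOf_mk, hbo, pow_one])) fun hd => hSi (hd.trans ⟨_, (relIndex_mul_index hSB).symm⟩)
    exact hle (mem_zpowers _)
  have hb1 : b ≠ 1 := fun e => hs.out.ne_one (by rw [← hbord, e, orderOf_one])
  -- the two halves of the Fitting subgroup of `L`
  set F := fittingSubgroup L with hF
  haveI hFnil : Group.IsNilpotent F := fittingSubgroup_isNilpotent
  haveI hFn : F.Normal := by rw [hF, fittingSubgroup_eq_iSup_pCore]; infer_instance
  have hsylF : ∀ (q : ℕ) [Fact q.Prime] (P : Sylow q F), (P : Subgroup F).map F.subtype ≤ pCore q L := by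
    intro q _ P
    haveI : (P : Subgroup F).Normal :=
      (Group.isNilpotent_of_finite_tfae.out 0 3 rfl rfl).mp hFnil q inferInstance P
    haveI : (P : Subgroup F).Characteristic := P.characteristic_of_normal inferInstance
    haveI : ((P : Subgroup F).map F.subtype).Normal := ConjAct.normal_of_characteristic_of_normal
    exact le_pCore (P.2.map F.subtype)
  have hhalf : ∀ C C' : Subgroup G, (Nat.card C).Coprime (Nat.card C') →
      (C.subgroupOf L).index ∣ Nat.card C' → ∀ f : L, f ∈ F → f ^ Nat.card C = 1 → (f : G) ∈ C := by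
    intro C C' hCC hCi f hf hf1
    set C₀ := (C.subgroupOf L).subgroupOf F
    have hcop : (Nat.card C₀).Coprime C₀.index := by
      refine Nat.coprime_of_dvd fun q hq hqC hqi => ?_
      haveI := Fact.mk hq
      obtain ⟨P⟩ := (inferInstance : Nonempty (Sylow q F))
      have hPC : (P : Subgroup F) ≤ C₀ := fun x hx =>
        le_of_normal_pgroup (D := C.subgroupOf L) (isPGroup_pCore q) (fun hd =>
          hq.ne_one (Nat.Coprime.eq_one_of_dvd ((hCC.coprime_dvd_left
            ((hqC.trans (card_comap_dvd_of_injective _ _ F.subtype_injective)).trans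
              (card_comap_dvd_of_injective _ _ L.subtype_injective)))) (hd.trans hCi)))
          (hsylF q P (mem_map_of_mem _ hx))
      exact P.not_dvd_index (hqi.trans (index_dvd_of_le hPC))
    haveI : C₀.Normal := normal_of_hall_nilpotent C₀ hcop
    have h1 := mem_of_pow_card (S := C₀) (C := ⊤) (by rw [normalizer_eq_top])
      (by rw [relIndex_top_right]; exact hcop) (mem_top (⟨f, hf⟩ : F)) ?_
    · exact h1
    · -- the order of `f` divides `|C₀|`
      have hfo : orderOf (⟨f, hf⟩ : F) ∣ Nat.card C := by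
        rw [orderOf_mk]; exact orderOf_dvd_of_pow_eq_one hf1
      refine orderOf_dvd_iff_pow_eq_one.mp (Nat.Coprime.dvd_of_dvd_mul_right ?_
        (C₀.card_mul_index.symm ▸ orderOf_dvd_natCard (⟨f, hf⟩ : F)))
      refine Nat.coprime_of_dvd fun q hq hqo hqi => ?_
      haveI := Fact.mk hq
      obtain ⟨P⟩ := (inferInstance : Nonempty (Sylow q F))
      have hPC : (P : Subgroup F) ≤ C₀ := fun x hx =>
        le_of_normal_pgroup (D := C.subgroupOf L) (isPGroup_pCore q) (fun hd =>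
          hq.ne_one (Nat.Coprime.eq_one_of_dvd (hCC.coprime_dvd_left (hqo.trans hfo)) (hd.trans hCi)))
          (hsylF q P (mem_map_of_mem _ hx))
      exact P.not_dvd_index (hqi.trans (index_dvd_of_le hPC))
  have hFA : ∀ f : L, f ∈ F → f ^ Nat.card A = 1 → (f : G) ∈ A := hhalf A B h.cop hAi
  have hFB : ∀ f : L, f ∈ F → f ^ Nat.card B = 1 → (f : G) ∈ B := hhalf B A h.cop.symm hBi
  have hsplit : ∀ f : L, f ∈ F → ∃ i j : ℤ, f = f ^ i * f ^ j ∧ ((f ^ i : L) : G) ∈ A ∧ ((f ^ j : L) : G) ∈ B := by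
    intro f hf
    obtain ⟨i, j, e, hi, hj⟩ := exists_split (x := f) h.cop (by
      rw [← h.card_eq]
      exact Subtype.ext (by rw [SubmonoidClass.coe_pow]; exact pow_card_eq_one'))
    exact ⟨i, j, e, hFA _ (zpow_mem hf i) hi, hFB _ (zpow_mem hf j) hj⟩
  have hconjF : ∀ (C : Subgroup G), (∀ f : L, f ∈ F → f ^ Nat.card C = 1 → (f : G) ∈ C) →
      ∀ l f : L, f ∈ F → (f : G) ∈ C → ((l * f * l⁻¹ : L) : G) ∈ C := by
    intro C hC l f hf hfC
    refine hC _ (hFn.conj_mem f hf l) (Subtype.ext ?_)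
    rw [SubmonoidClass.coe_pow]
    simpa using pow_card_conj hfC (l : G)
  set a' : L := ⟨a, haL⟩
  set b' : L := ⟨b, hSL hbS⟩
  set c := a' * b' * a'⁻¹ * b'⁻¹ with hc
  have hcF : c ∈ F := by
    refine centralizer_fittingSubgroup_le (G := L) (mem_centralizer_iff.mpr fun f hf => ?_)
    obtain ⟨i, j, e, hi, hj⟩ := hsplit f hf
    have hu : ∀ u : L, u ∈ F → (u : G) ∈ A → u * c = c * u := by
      intro u hu huA
      have h1 : (b'⁻¹ * u * b') * a' = a' * (b'⁻¹ * u * b') := Subtype.ext (by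
        have := hconjF A hFA b'⁻¹ u hu huA
        rw [inv_inv] at this
        exact hac _ this)
      have h2 : u * a' = a' * u := Subtype.ext (hac _ huA)
      calc u * c = (u * a') * b' * a'⁻¹ * b'⁻¹ := by rw [hc]; group
        _ = a' * b' * ((b'⁻¹ * u * b') * a'⁻¹) * b'⁻¹ := by rw [h2]; group
        _ = a' * b' * (a'⁻¹ * (b'⁻¹ * u * b')) * b'⁻¹ := by
          rw [((show Commute (b'⁻¹ * u * b') a' from h1).inv_right).eq]
        _ = _ := by rw [hc]; group
    have hv : ∀ v : L, v ∈ F → (v : G) ∈ B → v * c = c * v := by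
      intro v hv hvB
      have h1 : (a'⁻¹ * v * a') * b' = b' * (a'⁻¹ * v * a') := Subtype.ext (by
        have := hconjF B hFB a'⁻¹ v hv hvB
        rw [inv_inv] at this
        exact hbB _ this)
      have h2 : v * b' = b' * v := Subtype.ext (hbB _ hvB)
      calc v * c = a' * ((a'⁻¹ * v * a') * b') * a'⁻¹ * b'⁻¹ := by rw [hc]; group
        _ = a' * b' * a'⁻¹ * (v * b'⁻¹) := by rw [h1]; group
        _ = a' * b' * a'⁻¹ * (b'⁻¹ * v) := by rw [((show Commute v b' from h2).inv_right).eq]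
        _ = _ := by rw [hc]; group
    rw [e, mul_assoc, hv _ (zpow_mem hf j) hj, ← mul_assoc, hu _ (zpow_mem hf i) hi, mul_assoc]
  obtain ⟨i, j, e, hiA, hjB⟩ := hsplit c hcF
  set u := c ^ i
  set v := c ^ j
  have huF : u ∈ F := zpow_mem hcF i
  have hvF : v ∈ F := zpow_mem hcF j
  -- `u (v b)` has order `s`
  have hw : a' * b' * a'⁻¹ = u * (v * b') := by rw [← mul_assoc, ← e, hc, inv_mul_cancel_right]
  have hb'ord : b' ^ s = 1 := Subtype.ext (by rw [SubmonoidClass.coe_pow, ← hbord]; exact pow_orderOf_eq_one b)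
  have hmod : ∀ n : ℕ, ∃ t : L, t ∈ F ∧ (t : G) ∈ A ∧ (u * (v * b')) ^ n = t * (v * b') ^ n := by
    intro n
    induction n with
    | zero => exact ⟨1, F.one_mem, A.one_mem, by simp⟩
    | succ n ihn =>
      obtain ⟨t, htF, htA, ht⟩ := ihn
      refine ⟨t * ((v * b') ^ n * u * ((v * b') ^ n)⁻¹), mul_mem htF (hFn.conj_mem u huF _),
        A.mul_mem htA (hconjF A hFA _ u huF hiA), ?_⟩
      rw [pow_succ, ht, pow_succ (v * b')]; group
  obtain ⟨t, -, htA, ht⟩ := hmod s
  rw [← hw, conj_pow, hb'ord, mul_one, mul_inv_cancel,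
    (show Commute v b' from Subtype.ext (hbB _ hjB)).mul_pow, hb'ord, mul_one] at ht
  have hvs : v ^ s = 1 := by
    refine Subtype.ext (one_of_mem h.inf_eq ?_ (by rw [SubmonoidClass.coe_pow]; exact pow_mem hjB s))
    rw [eq_inv_of_mul_eq_one_right ht.symm]
    exact A.inv_mem htA
  have hv1 : v = 1 := by
    obtain ⟨P, hP⟩ := (IsPGroup.of_card (p := s) (G := zpowers (⟨v, hvF⟩ : F)) (n := (orderOf v).factorization s) (by
      obtain ⟨l, -, hl⟩ := (Nat.dvd_prime_pow hs.out).mp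
        (orderOf_dvd_of_pow_eq_one (n := s ^ 1) (by rwa [pow_one]) : orderOf v ∣ s ^ 1)
      rw [Nat.card_zpowers, orderOf_mk, hl, hs.out.factorization_pow, Finsupp.single_eq_same])).exists_le_sylow
    have h1 : v ∈ pCore s L := hsylF s P (mem_map_of_mem F.subtype (hP (mem_zpowers _)))
    rwa [hOs, mem_bot] at h1
  have hfin : b * a⁻¹ * b⁻¹ ∈ A := by
    have h1 : ((c : L) : G) ∈ A := by rw [e, hv1, mul_one]; exact hiA
    have h2 := A.mul_mem (A.inv_mem ha) h1
    simpa [hc, a', b', mul_assoc] using h2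
  exact hb1 (h.not_mem_normalizerA hbB (h.mem_M_of_central (A.inv_mem ha)
    (fun x hx => ((show Commute x a from hac x hx).inv_right).eq) (inv_ne_one.mpr ha1) hfin))

/-- A central element of `A` normalises no nontrivial subgroup of order prime to `|A|`. -/
theorem no_inv {a : G} (ha : a ∈ A) (hac : ∀ x ∈ A, x * a = a * x) (ha1 : a ≠ 1) {K : Subgroup G}
    (haK : a ∈ normalizer (K : Set G)) (hK : (Nat.card K).Coprime (Nat.card A)) : K = ⊥ := by
  by_contra hne
  obtain ⟨q, hq, hqK⟩ := Nat.exists_prime_and_dvd (mt card_eq_one.mp hne)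
  haveI := Fact.mk hq
  obtain ⟨P, hP⟩ := exists_invariant_sylow (A := zpowers a) (K := K) (zpowers_le.mpr haK)
    (hK.symm.coprime_dvd_left (card_dvd_of_le (zpowers_le.mpr ha)))
    (Or.inl (Group.isSolvable_of_comm fun x y => mul_comm' x y)) q
  set Y := (P : Subgroup K).map K.subtype with hY
  have hY1 : Y ≠ ⊥ := fun e => by
    have hP' : (P : Subgroup K) = ⊥ := (map_eq_bot_iff_of_injective _ K.subtype_injective).mp e
    have := P.not_dvd_index
    rw [hP', index_bot] at this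
    exact this hqK
  have hqA : ¬ q ∣ Nat.card A := fun hd => hq.ne_one (Nat.Coprime.eq_one_of_dvd (hK.coprime_dvd_left hqK) hd)
  have hqB : q ∣ Nat.card B := by
    have := hqK.trans (card_subgroup_dvd_card K)
    rw [h.card_eq] at this
    exact (hq.dvd_mul.mp this).resolve_left hqA
  obtain ⟨Q, hQB, -, hQp, -, -, hQi⟩ := h.symm.exists_sylowA hqB
  obtain ⟨Q', hQ'⟩ := (P.2.map K.subtype).exists_le_sylow
  obtain ⟨g, hg⟩ := MulAction.exists_smul_eq G (hQp.toSylow hQi) Q'
  obtain ⟨s, hs, hsB, hsq⟩ := h.twoB q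
  haveI := Fact.mk hs
  obtain ⟨S, hSB, hS1, hSp, hBS, -, hSi⟩ := h.symm.exists_sylowA hsB
  refine h.no_central_sylow ha hac ha1 hsB hSB hS1 hSp hBS hSi (g := g)
    (h.normalizer_ne_top hY1 fun e => ?_) (hP (mem_zpowers a)) ?_
  · have : (⊤ : Subgroup G) ≤ K := e ▸ map_subtype_le _
    have hA' : Nat.card A ∣ Nat.card K := card_dvd_of_le (le_top.trans this)
    exact h.neA (card_eq_one.mp (Nat.eq_one_of_dvd_coprimes hK hA' dvd_rfl))
  · refine le_trans (fun y hy => mem_centralizer_iff.mpr fun w hw => ?_) (centralizer_le_normalizer _)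
    have hwQ : w ∈ (Q' : Subgroup G) := hQ' hw
    rw [← hg, Sylow.coe_subgroup_smul, mem_conj_smul] at hwQ
    rw [mem_conj_smul] at hy
    have hwQ' : g⁻¹ * w * g ∈ Q := hwQ
    obtain ⟨k, hk⟩ := IsPGroup.iff_orderOf.mp hQp ⟨_, hwQ'⟩
    obtain ⟨l, hl⟩ := IsPGroup.iff_orderOf.mp hSp ⟨_, hy⟩
    rw [orderOf_mk] at hk hl
    have hc := commute_of_coprime h.nilB (hQB hwQ') (hSB hy)
      (by rw [hk, hl]; exact Nat.Coprime.pow _ _ ((Nat.coprime_primes hq hs).mpr hsq.symm))
    simpa [mul_assoc] using congrArg (fun t => g * t * g⁻¹) hc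

/-- Centralizers of the nonidentity elements of `A ∩ N(B)` normalise `A`. -/
theorem centralizer_le_of_mem_E {x : G} (hxA : x ∈ A) (hxN : x ∈ normalizer (B : Set G)) (hx1 : x ≠ 1) :
    centralizer ({x} : Set G) ≤ normalizer (A : Set G) := by
  set S := centralizer ({x} : Set G) with hS
  have hfac : ∀ g ∈ S, ∃ u ∈ A ⊓ S, ∃ v ∈ B ⊓ S, g = u * v := by
    intro g hg
    obtain ⟨y, hy, z, hz, e⟩ := h.fact' g⁻¹
    have hg' := mem_centralizer_singleton_iff.mp (inv_mem hg : g⁻¹ ∈ S)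
    have hyx : y⁻¹ * x * y = z * x * z⁻¹ := by
      rw [e] at hg'
      calc y⁻¹ * x * y = y⁻¹ * (x * (y * z)) * z⁻¹ := by group
        _ = y⁻¹ * ((y * z) * x) * z⁻¹ := by rw [hg']
        _ = _ := by group
    have h1 : y⁻¹ * x * y * x⁻¹ ∈ A := A.mul_mem (hyx ▸ A.mul_mem (A.mul_mem hz hxA) (A.inv_mem hz))
      (A.inv_mem hxA)
    have h2 : y⁻¹ * x * y * x⁻¹ ∈ B := by
      rw [mul_assoc, mul_assoc, ← mul_assoc x]
      exact B.mul_mem (B.inv_mem hy) ((mem_normalizer_iff.mp hxN y).mp hy)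
    have h3 := one_of_mem h.inf_eq h1 h2
    have hyc : y * x = x * y := by
      rw [mul_inv_eq_one] at h3
      calc y * x = y * (y⁻¹ * x * y) := by rw [h3]
        _ = x * y := by group
    have hyS : y ∈ S := mem_centralizer_singleton_iff.mpr hyc
    have hzS : z ∈ S := by
      have := S.mul_mem (S.inv_mem hyS) (S.inv_mem hg)
      rwa [e, inv_mul_cancel_left] at this
    exact ⟨z⁻¹, ⟨A.inv_mem hz, S.inv_mem hzS⟩, y⁻¹, ⟨B.inv_mem hy, S.inv_mem hyS⟩,
      by rw [← mul_inv_rev, ← e, inv_inv]⟩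
  have hStop : S ≠ ⊤ := h.centralizer_ne_top hx1 hxA
  haveI := h.ih S hStop hfac
  obtain ⟨p, hp, hpA, -⟩ := h.twoA 0
  haveI := Fact.mk hp
  obtain ⟨a, ha, hao, hac⟩ := h.exists_central hpA
  have ha1 : a ≠ 1 := fun e => hp.ne_one (by rw [← hao, e, orderOf_one])
  have haS : a ∈ S := mem_centralizer_singleton_iff.mpr (hac x hxA).symm
  set F := fittingSubgroup S with hF
  haveI hFn : F.Normal := by rw [hF, fittingSubgroup_eq_iSup_pCore]; infer_instance
  have hFA : F ≤ A.subgroupOf S := by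
    rw [hF, fittingSubgroup_eq_iSup_pCore]
    refine iSup_le fun q => ?_
    haveI := Fact.mk q.2
    by_cases hd : (q : ℕ) ∣ (A.subgroupOf S).index
    · have hqB : (q : ℕ) ∣ Nat.card B := hd.trans (h.relIndex_dvd hfac)
      have hbot : (pCore (q : ℕ) S).map S.subtype = ⊥ := by
        refine h.no_inv ha hac ha1 ?_ ?_
        · have h1 := le_normalizer_map (H := pCore (q : ℕ) S) S.subtype
          rw [normalizer_eq_top, ← MonoidHom.range_eq_map, range_subtype] at h1
          exact h1 haS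
        · obtain ⟨e, he⟩ := IsPGroup.iff_card.mp ((isPGroup_pCore (G := S) (q : ℕ)).map S.subtype)
          rw [he]
          exact Nat.Coprime.pow_left e (q.2.coprime_iff_not_dvd.mpr (h.prime_not_dvd q.2 hqB))
      rw [(map_eq_bot_iff_of_injective _ S.subtype_injective).mp hbot]
      exact bot_le
    · exact le_of_normal_pgroup (isPGroup_pCore _) hd
  have haF : (⟨a, haS⟩ : S) ∈ F := centralizer_fittingSubgroup_le (G := S)
    (mem_centralizer_iff.mpr fun f hf => Subtype.ext (hac _ (hFA hf)))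
  intro g hg
  exact h.mem_M_of_central ha hac ha1 (hFA (hFn.conj_mem _ haF ⟨g, hg⟩))

theorem M_decomp {g : G} (hg : g ∈ normalizer (A : Set G)) :
    ∃ u ∈ A, ∃ d ∈ B ⊓ normalizer (A : Set G), g = u * d := by
  obtain ⟨u, hu, d, hd, e⟩ := h.factorised_of_le le_normalizer g hg
  exact ⟨u, hu.1, d, hd, e⟩

/-- Centralizers of the nonidentity elements of `A` normalise `A`. -/
theorem centralizer_le {x : G} (hxA : x ∈ A) (hx1 : x ≠ 1) :
    centralizer ({x} : Set G) ≤ normalizer (A : Set G) := by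
  classical
  set M := normalizer (A : Set G) with hM
  set C₀ := centralizer ({x} : Set G) with hC₀
  by_cases hcase : C₀ ⊓ M ≤ A
  swap
  · obtain ⟨w, hw, hwA⟩ := SetLike.not_le_iff_exists.mp hcase
    obtain ⟨hwC, hwM⟩ := mem_inf.mp hw
    set w' := w ^ Nat.card A with hw'
    have hw1 : w' ≠ 1 := fun e => hwA (h.mem_A hwM e)
    have hMcard : (w' : G) ^ Nat.card B = 1 := by
      rw [hw', ← pow_mul, ← h.card_eq, pow_card_eq_one']
    haveI := h.solvable_of_le (X := M) le_normalizer h.M_ne_top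
    have hDi : (B.subgroupOf M).index ∣ Nat.card A := h.symm.relIndex_dvd fun g hg => by
      obtain ⟨u, hu, v, hv, e⟩ := h.factorised_of_le le_normalizer g⁻¹ (inv_mem hg)
      exact ⟨v⁻¹, inv_mem hv, u⁻¹, inv_mem hu, by rw [← mul_inv_rev, ← e, inv_inv]⟩
    let wM : M := ⟨w', pow_mem hwM _⟩
    have hBcard : Nat.card (B.subgroupOf M) ∣ Nat.card B :=
      card_comap_dvd_of_injective _ _ M.subtype_injective
    have hwo : orderOf wM ∣ Nat.card B :=
      orderOf_dvd_of_pow_eq_one (Subtype.ext (by rw [SubmonoidClass.coe_pow]; exact hMcard))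
    obtain ⟨m, hm⟩ := exists_le_conj (H := B.subgroupOf M) (K := zpowers wM)
      ((h.cop.symm.coprime_dvd_left hBcard).coprime_dvd_right hDi)
      (by rw [Nat.card_zpowers]; exact (h.cop.symm.coprime_dvd_left hwo).coprime_dvd_right hDi)
    have hd : ((m⁻¹ * wM * m : M) : G) ∈ B := mem_subgroupOf.mp (mem_conj_smul.mp (hm (mem_zpowers wM)))
    set m' : G := (m : G) with hm'
    have hd' : m'⁻¹ * w' * m' ∈ B := hd
    have hdM : m'⁻¹ * w' * m' ∈ M := mul_mem (mul_mem (inv_mem m.2) (pow_mem hwM _)) m.2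
    have hd1 : m'⁻¹ * w' * m' ≠ 1 := fun e => hw1 (by
      have := congrArg (fun t => m' * t * m'⁻¹) e
      simpa [mul_assoc] using this)
    have hxA' : m'⁻¹ * x * m' ∈ A := by
      have := (mem_normalizer_iff.mp (inv_mem m.2 : m'⁻¹ ∈ normalizer (A : Set G)) x).mp hxA
      simpa using this
    have hcomm : (m'⁻¹ * x * m') * (m'⁻¹ * w' * m') = (m'⁻¹ * w' * m') * (m'⁻¹ * x * m') := by
      have h1 : x * w' = w' * x :=
        ((show Commute x w from (mem_centralizer_singleton_iff.mp hwC).symm).pow_right _).eq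
      simpa [mul_assoc] using congrArg (fun t => m'⁻¹ * t * m') h1
    have hxN : m'⁻¹ * x * m' ∈ normalizer (B : Set G) :=
      h.symm.centralizer_le_of_mem_E hd' hdM hd1 (mem_centralizer_singleton_iff.mpr hcomm)
    have hx1' : m'⁻¹ * x * m' ≠ 1 := fun e => hx1 (by
      have := congrArg (fun t => m' * t * m'⁻¹) e
      simpa [mul_assoc] using this)
    intro g hg
    have hg' : m'⁻¹ * g * m' ∈ centralizer ({m'⁻¹ * x * m'} : Set G) := by
      rw [mem_centralizer_singleton_iff]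
      simpa [mul_assoc] using congrArg (fun t => m'⁻¹ * t * m') (mem_centralizer_singleton_iff.mp hg)
    have := mul_mem (mul_mem m.2 (h.centralizer_le_of_mem_E hxA' hxN hx1' hg')) (inv_mem m.2)
    simpa [hm', mul_assoc] using this
  -- `C_A(x)` is a nilpotent Hall subgroup with a normal complement
  set U := (A ⊓ C₀).subgroupOf C₀ with hU
  have hUA : ∀ u : C₀, u ∈ U → (u : G) ∈ A := fun u hu => (mem_subgroupOf.mp hu).1
  have hMA : ∀ g : C₀, (g : G) ∈ M → g ∈ U := fun g hg =>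
    mem_subgroupOf.mpr ⟨hcase ⟨g.2, hg⟩, g.2⟩
  have hUnil : Group.IsNilpotent U := by
    haveI := h.nilA
    haveI : Group.IsNilpotent ↥((A ⊓ C₀).subgroupOf A) := Subgroup.isNilpotent _
    exact Group.nilpotent_of_mulEquiv ((subgroupOfEquivOfLe (inf_le_left : A ⊓ C₀ ≤ A)).trans
      (subgroupOfEquivOfLe (inf_le_right : A ⊓ C₀ ≤ C₀)).symm)
  have hUcard : Nat.card U ∣ Nat.card A := by
    rw [hU, card_subgroupOf inf_le_right]; exact card_dvd_of_le inf_le_left
  -- each Sylow subgroup of `U` contains a central element of `A`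
  have hsyl : ∀ t : ℕ, t.Prime → t ∣ Nat.card A → ∀ P : Sylow t U, ∃ a ∈ A, ∃ haC : a ∈ C₀, a ≠ 1 ∧
      (∀ y ∈ A, y * a = a * y) ∧ (⟨a, haC⟩ : C₀) ∈ (P : Subgroup U).map U.subtype := by
    intro t ht htA P
    haveI := Fact.mk ht
    obtain ⟨a, ha, hao, hac⟩ := h.exists_central htA
    have haC : a ∈ C₀ := mem_centralizer_singleton_iff.mpr (hac x hxA).symm
    haveI hPn : (P : Subgroup U).Normal :=
      (Group.isNilpotent_of_finite_tfae.out 0 3 rfl rfl).mp hUnil t inferInstance P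
    let aU : U := ⟨⟨a, haC⟩, mem_subgroupOf.mpr ⟨ha, haC⟩⟩
    have hp : IsPGroup t (zpowers aU) := IsPGroup.of_card (n := 1) (by
      rw [Nat.card_zpowers, pow_one, ← hao, ← orderOf_coe, ← orderOf_coe])
    have hle : zpowers aU ≤ (P : Subgroup U) := P.3 (hp.to_sup_of_normal_right P.2) le_sup_right ▸ le_sup_left
    exact ⟨a, ha, haC, fun e => ht.ne_one (by rw [← hao, e, orderOf_one]), hac,
      mem_map_of_mem U.subtype (hle (mem_zpowers aU))⟩
  have hnormM : ∀ t : ℕ, t.Prime → t ∣ Nat.card A → ∀ P : Sylow t U, ∀ g : C₀,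
      g ∈ normalizer (((P : Subgroup U).map U.subtype : Subgroup C₀) : Set C₀) → g ∈ U := by
    intro t ht htA P g hg
    obtain ⟨a, ha, haC, ha1, hac, haP⟩ := hsyl t ht htA P
    have h1 := (mem_normalizer_iff.mp hg _).mp haP
    exact hMA g (h.mem_M_of_central ha hac ha1 (hUA _ (map_subtype_le _ h1)))
  have hUS : ∀ t : ℕ, t.Prime → t ∣ Nat.card A → ∀ P : Sylow t U,
      ∃ R : Sylow t C₀, (R : Subgroup C₀) = (P : Subgroup U).map U.subtype := by
    intro t ht htA P
    haveI := Fact.mk ht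
    obtain ⟨R, hR⟩ := (P.2.map U.subtype).exists_le_sylow
    refine ⟨R, le_antisymm ?_ hR⟩
    set Q := (P : Subgroup U).map U.subtype
    by_contra hne
    have hlt : Q.subgroupOf R < ⊤ := lt_top_iff_ne_top.mpr fun e => hne (subgroupOf_eq_top.mp e)
    haveI := R.2.isNilpotent
    obtain ⟨g, hg, hgQ⟩ := SetLike.exists_of_lt (Group.normalizerCondition_of_isNilpotent _ hlt)
    have hgn : (g : C₀) ∈ normalizer (Q : Set C₀) := by
      refine mem_normalizer_of_conj_smul_eq ?_
      have h1 := congrArg (Subgroup.map (R : Subgroup C₀).subtype) (conj_smul_eq_self hg)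
      rwa [map_conj_smul, map_subgroupOf_eq_of_le hR] at h1
    have hgU := hnormM t ht htA P g hgn
    have hle : IsPGroup t ↥((R : Subgroup C₀).subgroupOf U) := R.2.comap_of_injective _ U.subtype_injective
    have hPR : (P : Subgroup U) ≤ (R : Subgroup C₀).subgroupOf U := fun y hy => hR (mem_map_of_mem _ hy)
    have := P.3 hle hPR
    exact hgQ (mem_subgroupOf.mpr ⟨⟨g, hgU⟩, this ▸ mem_subgroupOf.mpr g.2, rfl⟩)
  have hdvd : ∀ t : ℕ, t.Prime → t ∣ Nat.card A → ¬ t ∣ U.index := by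
    intro t ht htA hti
    haveI := Fact.mk ht
    obtain ⟨P⟩ := (inferInstance : Nonempty (Sylow t U))
    obtain ⟨R, hR⟩ := hUS t ht htA P
    exact R.not_dvd_index (hti.trans (index_dvd_of_le (hR ▸ map_subtype_le _)))
  have hcop : (Nat.card U).Coprime U.index := Nat.coprime_of_dvd fun t ht htU hti =>
    hdvd t ht (htU.trans hUcard) hti
  obtain ⟨K, hKn, hKc⟩ := Cfsg.Agent.S0558.exists_complement_of_local_fusion U hUnil hcop
    fun q hq S y hy g hg => by
    haveI := Fact.mk hq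
    by_cases hqA : q ∣ Nat.card A
    swap
    · have hS : (S : Subgroup U) = ⊥ := card_eq_one.mp (by
        rw [S.card_eq_multiplicity, Nat.factorization_eq_zero_of_not_dvd fun h' => hqA (h'.trans hUcard), pow_zero])
      rw [hS, mem_bot] at hy
      exact ⟨1, one_mem _, by rw [hy]; simp⟩
    obtain ⟨r, hr, hrA, hrq⟩ := h.twoA q
    haveI := Fact.mk hr
    obtain ⟨T⟩ := (inferInstance : Nonempty (Sylow r U))
    obtain ⟨R, hR⟩ := hUS r hr hrA T
    have hcomm : ∀ u ∈ (S : Subgroup U), ∀ v ∈ (T : Subgroup U), u * v = v * u := by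
      intro u hu v hv
      haveI := hUnil
      refine (Transfer.commute_of_coprime_orderOf ?_).eq
      obtain ⟨k, hk⟩ := IsPGroup.iff_orderOf.mp S.2 ⟨u, hu⟩
      obtain ⟨l, hl⟩ := IsPGroup.iff_orderOf.mp T.2 ⟨v, hv⟩
      rw [orderOf_mk] at hk hl
      rw [hk, hl]
      exact Nat.Coprime.pow _ _ ((Nat.coprime_primes hq hr).mpr hrq.symm)
    have hcent : ∀ u ∈ (S : Subgroup U), (R : Subgroup C₀) ≤ centralizer ({(u : C₀)} : Set C₀) := by
      intro u hu z hz
      rw [hR] at hz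
      obtain ⟨v, hv, rfl⟩ := hz
      exact mem_centralizer_singleton_iff.mpr (congrArg Subtype.val (hcomm u hu v hv)).symm
    obtain ⟨z, hz, hze⟩ := hg
    have hRC := hcent y hy
    have hRC' : ((g⁻¹ • R : Sylow r C₀) : Subgroup C₀) ≤ centralizer ({(y : C₀)} : Set C₀) := by
      intro v hv
      rw [Sylow.coe_subgroup_smul, mem_conj_smul, inv_inv] at hv
      have := mem_centralizer_singleton_iff.mp (hcent z hz hv)
      rw [show ((z : U) : C₀) = g * y * g⁻¹ from hze] at this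
      rw [mem_centralizer_singleton_iff]
      simpa [mul_assoc] using congrArg (fun u => g⁻¹ * u * g) this
    obtain ⟨c, hc⟩ := MulAction.exists_smul_eq (centralizer ({(y : C₀)} : Set C₀)) (R.subtype hRC)
      ((g⁻¹ • R).subtype hRC')
    have hc' := congrArg (fun Q : Sylow r (centralizer ({(y : C₀)} : Set C₀)) =>
      (Sylow.toSubgroup Q).map (Subgroup.subtype _)) hc
    simp only [Sylow.coe_subgroup_smul, Sylow.coe_subtype, map_conj_smul,
      map_subgroupOf_eq_of_le hRC, map_subgroupOf_eq_of_le hRC', coe_subtype] at hc'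
    have hgc : g * c ∈ U := by
      refine hnormM r hr hrA T _ ?_
      rw [← hR]
      refine mem_normalizer_of_conj_smul_eq ?_
      rw [conj_smul_mul, hc', subgroupOf_map_subtype,
        inf_eq_left.mpr (by rw [← Sylow.coe_subgroup_smul]; exact hRC'), conj_smul_inv_smul]
    refine ⟨g * c, hgc, ?_⟩
    calc g * c * (y : C₀) * (g * c)⁻¹ = g * ((c : C₀) * y) * (c : C₀)⁻¹ * g⁻¹ := by group
      _ = g * ((y : C₀) * c) * (c : C₀)⁻¹ * g⁻¹ := by rw [mem_centralizer_singleton_iff.mp c.2]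
      _ = _ := by group
  have hKcop : (Nat.card K).Coprime (Nat.card A) := Nat.coprime_of_dvd fun t ht htK htA =>
    hdvd t ht htA (by rw [hKc.index_eq_card]; exact htK)
  obtain ⟨p, hp, hpA, -⟩ := h.twoA 0
  haveI := Fact.mk hp
  obtain ⟨a, ha, hao, hac⟩ := h.exists_central hpA
  have hKbot : K.map C₀.subtype = ⊥ := by
    refine h.no_inv ha hac (fun e => hp.ne_one (by rw [← hao, e, orderOf_one])) ?_ ?_
    · have h1 := le_normalizer_map (H := K) C₀.subtype
      rw [normalizer_eq_top, ← MonoidHom.range_eq_map, range_subtype] at h1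
      exact h1 (mem_centralizer_singleton_iff.mpr (hac x hxA).symm)
    · rw [card_map_of_injective C₀.subtype_injective]; exact hKcop
  have hUtop : U = ⊤ := by
    have h1 := hKc.sup_eq_top
    rwa [(map_eq_bot_iff_of_injective _ C₀.subtype_injective).mp hKbot, bot_sup_eq] at h1
  intro g hg
  exact le_normalizer (hUA ⟨g, hg⟩ (hUtop ▸ mem_top _))

/-- `A` is a trivial intersection set. -/
theorem mem_M_of_conj {x : G} (hxA : x ∈ A) (hx1 : x ≠ 1) {g : G} (hg : g * x * g⁻¹ ∈ A) :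
    g ∈ normalizer (A : Set G) := by
  obtain ⟨p, hp, hpA, -⟩ := h.twoA 0
  haveI := Fact.mk hp
  obtain ⟨a, ha, hao, hac⟩ := h.exists_central hpA
  have h1 : g⁻¹ * a * g ∈ centralizer ({x} : Set G) := by
    rw [mem_centralizer_singleton_iff]
    simpa [mul_assoc] using congrArg (fun t => g⁻¹ * t * g) (hac _ hg).symm
  have h2 := h.centralizer_le hxA hx1 h1
  have h3 : g⁻¹ * a * g ∈ A := h.mem_A h2 (by simpa using pow_card_conj ha g⁻¹)
  have h4 := h.mem_M_of_central ha hac (fun e => hp.ne_one (by rw [← hao, e, orderOf_one]))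
    (g := g⁻¹) (by simpa using h3)
  simpa using inv_mem h4

theorem two_mul_card_lt : 2 * Nat.card ↥(A ⊓ normalizer (B : Set G)) < Nat.card A := by
  obtain ⟨p, hp, hpA, hp2⟩ := h.twoA 2
  haveI := Fact.mk hp
  obtain ⟨a, ha, hao, hac⟩ := h.exists_central hpA
  set E := A ⊓ normalizer (B : Set G)
  have hdisj : E ⊓ zpowers a = ⊥ := by
    rw [eq_bot_iff]
    intro z hz
    obtain ⟨hzE, hza⟩ := mem_inf.mp hz
    obtain ⟨i, rfl⟩ := mem_zpowers_iff.mp hza
    rw [mem_bot]
    exact h.symm.not_mem_normalizerA (fun y hy => ((show Commute y a from hac y hy).zpow_right i).eq) hzE.2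
  have h1 := Coprime.card_coe_mul_mul_card_inf E (zpowers a)
  rw [hdisj, card_bot, mul_one, Nat.card_zpowers, hao] at h1
  have h2 : Nat.card ((E : Set G) * (zpowers a : Set G) : Set G) ≤ Nat.card A :=
    Nat.card_mono (Set.toFinite _) (Set.mul_subset_iff.mpr fun u hu v hv =>
      A.mul_mem hu.1 (zpowers_le.mpr ha hv))
  rw [h1] at h2
  have : 3 ≤ p := by have := hp.two_le; omega
  have := Nat.card_pos (α := E)
  nlinarith

theorem M_inter_eq {g : G} (hgM : g ∈ normalizer (A : Set G)) (hgN : g ∈ normalizer (B : Set G)) :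
    ∃ u ∈ A ⊓ normalizer (B : Set G), ∃ d ∈ B ⊓ normalizer (A : Set G), g = u * d := by
  obtain ⟨u, hu, d, hd, e⟩ := h.M_decomp hgM
  refine ⟨u, ⟨hu, ?_⟩, d, hd, e⟩
  have := mul_mem hgN (inv_mem (le_normalizer hd.1 : d ∈ normalizer (B : Set G)))
  rwa [e, mul_inv_cancel_right] at this

theorem card_M : Nat.card ↥(normalizer (A : Set G)) =
    Nat.card A * Nat.card ↥(B ⊓ normalizer (A : Set G)) := by
  have h1 := Coprime.card_coe_mul_mul_card_inf A (B ⊓ normalizer (A : Set G))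
  rw [show A ⊓ (B ⊓ normalizer (A : Set G)) = ⊥ from
    eq_bot_iff.mpr ((inf_le_inf_left _ inf_le_left).trans h.inf_eq.le), card_bot, mul_one] at h1
  rw [← h1]
  congr 1
  · congr 1
    ext g
    refine ⟨fun hg => ?_, ?_⟩
    · obtain ⟨u, hu, d, hd, e⟩ := h.M_decomp hg
      exact ⟨u, hu, d, hd, e.symm⟩
    · rintro ⟨u, hu, d, hd, rfl⟩
      exact mul_mem (le_normalizer hu) hd.2

/-- The counting contradiction. -/
theorem false : False := by
  classical
  have := Fintype.ofFinite G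
  set M := normalizer (A : Set G) with hM
  set N := normalizer (B : Set G) with hN
  set E := A ⊓ N with hE
  set D := B ⊓ M with hD
  have hED : ∀ e ∈ E, ∀ d ∈ D, e * d = d * e := by
    intro e he d hd
    have h1 : e * d * e⁻¹ * d⁻¹ ∈ B := B.mul_mem ((mem_normalizer_iff.mp he.2 d).mp hd.1) (B.inv_mem hd.1)
    have h2 : e * d * e⁻¹ * d⁻¹ ∈ A := by
      rw [mul_assoc, mul_assoc, ← mul_assoc d]
      exact A.mul_mem he.1 ((mem_normalizer_iff.mp hd.2 _).mp (A.inv_mem he.1))
    have h3 := one_of_mem h.inf_eq h2 h1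
    rw [mul_inv_eq_one, mul_inv_eq_iff_eq_mul] at h3
    exact h3
  have hAB := h.card_eq
  have hH : Nat.card ↥(M ⊓ N) = Nat.card E * Nat.card D := by
    have h1 := Coprime.card_coe_mul_mul_card_inf E D
    rw [show E ⊓ D = ⊥ from eq_bot_iff.mpr ((inf_le_inf inf_le_left inf_le_left).trans h.inf_eq.le),
      card_bot, mul_one] at h1
    rw [← h1]
    congr 1
    congr 1
    ext g
    refine ⟨fun hg => ?_, ?_⟩
    · obtain ⟨u, hu, d, hd, e⟩ := h.M_inter_eq hg.1 hg.2
      exact ⟨u, hu, d, hd, e.symm⟩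
    · rintro ⟨u, hu, d, hd, rfl⟩
      exact ⟨mul_mem (le_normalizer hu.1) hd.2, mul_mem hu.2 (le_normalizer hd.1)⟩
  have hpA : ∀ {y : G}, y ∈ A → y ^ Nat.card A = 1 := fun {y} hy =>
    congrArg Subtype.val (pow_card_eq_one' (x := (⟨y, hy⟩ : A)))
  have hpB : ∀ {y : G}, y ∈ B → y ^ Nat.card B = 1 := fun {y} hy =>
    congrArg Subtype.val (pow_card_eq_one' (x := (⟨y, hy⟩ : B)))
  let f : ((G ⧸ M) × {y : A // y ≠ 1}) ⊕ (((G ⧸ N) × {y : B // y ≠ 1}) ⊕
      ((G ⧸ (M ⊓ N)) × ({y : E // y ≠ 1} × {y : D // y ≠ 1}))) ⊕ Unit → G :=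
    Sum.elim (fun q => q.1.out * ((q.2.1 : A) : G) * q.1.out⁻¹)
      (Sum.elim (Sum.elim (fun q => q.1.out * ((q.2.1 : B) : G) * q.1.out⁻¹)
        (fun q => q.1.out * (((q.2.1.1 : E) : G) * ((q.2.2.1 : D) : G)) * q.1.out⁻¹)) fun _ => 1)
  have hAne : ∀ q : (G ⧸ M) × {y : A // y ≠ 1}, q.1.out * ((q.2.1 : A) : G) * q.1.out⁻¹ ≠ 1 :=
    fun q e => q.2.2 (Subtype.ext (conj_eq_one_iff.mp e))
  have hBne : ∀ q : (G ⧸ N) × {y : B // y ≠ 1}, q.1.out * ((q.2.1 : B) : G) * q.1.out⁻¹ ≠ 1 :=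
    fun q e => q.2.2 (Subtype.ext (conj_eq_one_iff.mp e))
  have hmix : ∀ (e d : G), e ∈ E → d ∈ D → ∀ n, (e * d) ^ n = e ^ n * d ^ n := fun e d he hd n =>
    (show Commute e d from hED e he d hd).mul_pow n
  have hABcop := h.cop
  have hmA : ∀ (q : (G ⧸ (M ⊓ N)) × ({y : E // y ≠ 1} × {y : D // y ≠ 1})) (n : ℕ),
      (q.1.out * (((q.2.1.1 : E) : G) * ((q.2.2.1 : D) : G)) * q.1.out⁻¹) ^ n = 1 →
      ((q.2.1.1 : E) : G) ^ n = 1 ∧ ((q.2.2.1 : D) : G) ^ n = 1 := by
    intro q n hq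
    rw [conj_pow, conj_eq_one_iff, hmix _ _ q.2.1.1.2 q.2.2.1.2] at hq
    have he : ((q.2.1.1 : E) : G) ^ n ∈ A := pow_mem q.2.1.1.2.1 n
    have hd : ((q.2.2.1 : D) : G) ^ n ∈ B := pow_mem q.2.2.1.2.1 n
    have he' := one_of_mem h.inf_eq he (by rw [eq_inv_of_mul_eq_one_left hq]; exact B.inv_mem hd)
    exact ⟨he', by rwa [he', one_mul] at hq⟩
  have hconj : ∀ (g g' y y' : G), g * y * g⁻¹ = g' * y' * g'⁻¹ →
      (g'⁻¹ * g) * y * (g'⁻¹ * g)⁻¹ = y' := by
    intro g g' y y' e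
    calc (g'⁻¹ * g) * y * (g'⁻¹ * g)⁻¹ = g'⁻¹ * (g * y * g⁻¹) * g' := by group
      _ = y' := by rw [e]; group
  have hfinj : Function.Injective f := by
    rintro (⟨q₁, x₁⟩ | ((⟨q₁, x₁⟩ | ⟨q₁, x₁, z₁⟩) | u₁)) (⟨q₂, x₂⟩ | ((⟨q₂, x₂⟩ | ⟨q₂, x₂, z₂⟩) | u₂))
      e <;> simp only [f, Sum.elim_inl, Sum.elim_inr] at e
    · have h1 := hconj _ _ _ _ e
      have hm : q₂.out⁻¹ * q₁.out ∈ M := h.mem_M_of_conj x₁.1.2 (fun e' => x₁.2 (Subtype.ext e')) (h1 ▸ x₂.1.2)
      have hq : q₁ = q₂ := by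
        rw [← QuotientGroup.out_eq' q₁, ← QuotientGroup.out_eq' q₂]
        exact (QuotientGroup.eq.mpr hm).symm
      subst hq
      simp at e
      simp [Subtype.ext_iff, e]
    · refine absurd (eq_one_of_pow_coprime hABcop ?_ ?_) (hAne (q₁, x₁))
      · rw [conj_pow, hpA x₁.1.2]; simp
      · rw [e, conj_pow, hpB x₂.1.2]; simp
    · have h1 := (hmA (q₂, x₂, z₂) (Nat.card A) (by rw [← e, conj_pow, hpA x₁.1.2]; simp)).2
      exact absurd (Subtype.ext (eq_one_of_pow_coprime hABcop h1 (hpB z₂.1.2.1))) z₂.2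
    · exact absurd e (hAne (q₁, x₁))
    · refine absurd (eq_one_of_pow_coprime hABcop ?_ ?_) (hAne (q₂, x₂))
      · rw [conj_pow, hpA x₂.1.2]; simp
      · rw [← e, conj_pow, hpB x₁.1.2]; simp
    · have h1 := hconj _ _ _ _ e
      have hm : q₂.out⁻¹ * q₁.out ∈ N := h.symm.mem_M_of_conj x₁.1.2 (fun e' => x₁.2 (Subtype.ext e')) (h1 ▸ x₂.1.2)
      have hq : q₁ = q₂ := by
        rw [← QuotientGroup.out_eq' q₁, ← QuotientGroup.out_eq' q₂]
        exact (QuotientGroup.eq.mpr hm).symm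
      subst hq
      simp at e
      simp [Subtype.ext_iff, e]
    · have h1 := (hmA (q₂, x₂, z₂) (Nat.card B) (by rw [← e, conj_pow, hpB x₁.1.2]; simp)).1
      exact absurd (Subtype.ext (eq_one_of_pow_coprime hABcop (hpA x₂.1.2.1) h1)) x₂.2
    · exact absurd e (hBne (q₁, x₁))
    · have h1 := (hmA (q₁, x₁, z₁) (Nat.card A) (by rw [e, conj_pow, hpA x₂.1.2]; simp)).2
      exact absurd (Subtype.ext (eq_one_of_pow_coprime hABcop h1 (hpB z₁.1.2.1))) z₁.2
    · have h1 := (hmA (q₁, x₁, z₁) (Nat.card B) (by rw [e, conj_pow, hpB x₂.1.2]; simp)).1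
      exact absurd (Subtype.ext (eq_one_of_pow_coprime hABcop (hpA x₁.1.2.1) h1)) x₁.2
    · -- two mixed elements
      have h1 := hconj _ _ _ _ e
      set g := q₂.out⁻¹ * q₁.out with hg
      set e₁ := ((x₁.1 : E) : G) with he₁
      set d₁ := ((z₁.1 : D) : G) with hd₁
      set e₂ := ((x₂.1 : E) : G) with he₂
      set d₂ := ((z₂.1 : D) : G) with hd₂
      obtain ⟨s, t, hst⟩ : IsCoprime (Nat.card A : ℤ) (Nat.card B : ℤ) :=
        Int.isCoprime_iff_nat_coprime.mpr (by simpa using hABcop)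
      have hsel : ∀ u v : G, u ∈ E → v ∈ D →
          ((u * v) ^ Nat.card B) ^ t = u ∧ ((u * v) ^ Nat.card A) ^ s = v := by
        intro u v hu hv
        constructor
        · rw [hmix u v hu hv, hpB hv.1, mul_one, ← zpow_natCast, ← zpow_mul]
          calc u ^ ((Nat.card B : ℤ) * t) = (u ^ (Nat.card A : ℤ)) ^ s * u ^ ((Nat.card B : ℤ) * t) := by
                rw [zpow_natCast, hpA hu.1, one_zpow, one_mul]
            _ = u := by rw [← zpow_mul, ← zpow_add, mul_comm _ s, mul_comm _ t, hst, zpow_one]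
        · rw [hmix u v hu hv, hpA hu.1, one_mul, ← zpow_natCast, ← zpow_mul]
          calc v ^ ((Nat.card A : ℤ) * s) = v ^ ((Nat.card A : ℤ) * s) * (v ^ (Nat.card B : ℤ)) ^ t := by
                rw [zpow_natCast v (Nat.card B), hpB hv.1, one_zpow, mul_one]
            _ = v := by rw [← zpow_mul, ← zpow_add, mul_comm _ s, mul_comm _ t, hst, zpow_one]
      have hge : g * e₁ * g⁻¹ = e₂ := by
        rw [← (hsel e₁ d₁ x₁.1.2 z₁.1.2).1, ← (hsel e₂ d₂ x₂.1.2 z₂.1.2).1, ← h1, conj_pow, conj_zpow]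
      have hgd : g * d₁ * g⁻¹ = d₂ := by
        rw [← (hsel e₁ d₁ x₁.1.2 z₁.1.2).2, ← (hsel e₂ d₂ x₂.1.2 z₂.1.2).2, ← h1, conj_pow, conj_zpow]
      have hm : g ∈ M := h.mem_M_of_conj x₁.1.2.1 (fun e' => x₁.2 (Subtype.ext e')) (hge ▸ x₂.1.2.1)
      have hn : g ∈ N := h.symm.mem_M_of_conj z₁.1.2.1 (fun e' => z₁.2 (Subtype.ext e')) (hgd ▸ z₂.1.2.1)
      have hq : q₁ = q₂ := by
        rw [← QuotientGroup.out_eq' q₁, ← QuotientGroup.out_eq' q₂]
        exact (QuotientGroup.eq.mpr (show g ∈ M ⊓ N from ⟨hm, hn⟩)).symm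
      subst hq
      rw [hg, inv_mul_cancel, one_mul, inv_one, mul_one] at hge hgd
      simp [Subtype.ext_iff, ← he₁, ← he₂, ← hd₁, ← hd₂, hge, hgd]
    · have h1 := (hmA (q₁, x₁, z₁) (Nat.card A) (by rw [e]; simp)).2
      exact absurd (Subtype.ext (eq_one_of_pow_coprime hABcop h1 (hpB z₁.1.2.1))) z₁.2
    · exact absurd e.symm (hAne (q₂, x₂))
    · exact absurd e.symm (hBne (q₂, x₂))
    · have h1 := (hmA (q₂, x₂, z₂) (Nat.card A) (by rw [← e]; simp)).2
      exact absurd (Subtype.ext (eq_one_of_pow_coprime hABcop h1 (hpB z₂.1.2.1))) z₂.2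
    · rfl
  have hle := Nat.card_le_card_of_injective f hfinj
  simp only [Nat.card_sum, Nat.card_prod, Nat.card_unique] at hle
  have hne : ∀ (K : Subgroup G), Nat.card {y : K // y ≠ 1} = Nat.card K - 1 := fun K => by
    rw [Nat.card_eq_fintype_card, Nat.card_eq_fintype_card, Fintype.card_subtype_compl, Fintype.card_subtype_eq]
  rw [hne, hne, hne, hne, hAB, ← index_eq_card, ← index_eq_card, ← index_eq_card] at hle
  have hiM : M.index * (Nat.card A * Nat.card D) = Nat.card A * Nat.card B := by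
    rw [← h.card_M, index_mul_card, hAB]
  have hiN : N.index * (Nat.card B * Nat.card E) = Nat.card A * Nat.card B := by
    rw [← h.symm.card_M, index_mul_card, hAB]
  have hiH : (M ⊓ N).index * (Nat.card E * Nat.card D) = Nat.card A * Nat.card B := by
    rw [← hH, index_mul_card, hAB]
  have h2A := h.two_mul_card_lt
  have h2B := h.symm.two_mul_card_lt
  rw [← hN, ← hE] at h2A
  rw [← hM, ← hD] at h2B
  obtain ⟨α, hα⟩ : ∃ α, Nat.card A = α + 1 := ⟨_, (Nat.sub_add_cancel Nat.card_pos).symm⟩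
  obtain ⟨β, hβ⟩ : ∃ β, Nat.card B = β + 1 := ⟨_, (Nat.sub_add_cancel Nat.card_pos).symm⟩
  obtain ⟨ε, hε⟩ : ∃ ε, Nat.card E = ε + 1 := ⟨_, (Nat.sub_add_cancel Nat.card_pos).symm⟩
  obtain ⟨δ, hδ⟩ : ∃ δ, Nat.card D = δ + 1 := ⟨_, (Nat.sub_add_cancel Nat.card_pos).symm⟩
  rw [hα, hβ, hε, hδ] at hle hiH
  rw [hα, hβ, hδ] at hiM
  rw [hα, hβ, hε] at hiN
  rw [hα, hε] at h2A
  rw [hβ, hδ] at h2B
  simp only [Nat.add_sub_cancel] at hle
  have e1 : M.index * (δ + 1) = β + 1 :=
    Nat.eq_of_mul_eq_mul_left (Nat.succ_pos α) (by linarith [hiM])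
  have e2 : N.index * (ε + 1) = α + 1 :=
    Nat.eq_of_mul_eq_mul_left (Nat.succ_pos β) (by linarith [hiN])
  have e3 : (M.index * α + (N.index * β + (M ⊓ N).index * (ε * δ) + 1)) * ((ε + 1) * (δ + 1)) ≤
      (α + 1) * (β + 1) * ((ε + 1) * (δ + 1)) := Nat.mul_le_mul_right _ hle
  have e4 : (M.index * α + (N.index * β + (M ⊓ N).index * (ε * δ) + 1)) * ((ε + 1) * (δ + 1)) =
      (M.index * (δ + 1)) * α * (ε + 1) + ((N.index * (ε + 1)) * β * (δ + 1) +
      ((M ⊓ N).index * ((ε + 1) * (δ + 1))) * (ε * δ)) + (ε + 1) * (δ + 1) := by ring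
  rw [e4, e1, e2, hiH] at e3
  nlinarith [Nat.mul_lt_mul_of_pos_right h2A (Nat.succ_pos β), Nat.mul_lt_mul_of_pos_right h2B (Nat.succ_pos α)]

end Data

theorem solvable_aux (n : ℕ) : ∀ (G : Type u) [Group G] [Finite G], Nat.card G = n →
    ∀ A B : Subgroup G, Group.IsNilpotent A → Group.IsNilpotent B →
      (Nat.card A).Coprime (Nat.card B) → (∀ g : G, ∃ a ∈ A, ∃ b ∈ B, g = a * b) → Group.IsSolvable G := by
  induction n using Nat.strong_induction_on with
  | _ n ih => ?_
  intro G _ _ hn A B hA hB hcop hfact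
  haveI := hA
  haveI := hB
  by_cases hA1 : A = ⊥
  · have : B = ⊤ := eq_top_iff.mpr fun g _ => by
      obtain ⟨a, ha, b, hb, e⟩ := hfact g
      rw [hA1, mem_bot] at ha
      rwa [e, ha, one_mul]
    subst this
    haveI : Group.IsNilpotent G := Group.nilpotent_of_mulEquiv topEquiv
    infer_instance
  by_cases hB1 : B = ⊥
  · have : A = ⊤ := eq_top_iff.mpr fun g _ => by
      obtain ⟨a, ha, b, hb, e⟩ := hfact g
      rw [hB1, mem_bot] at hb
      rwa [e, hb, mul_one]
    subst this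
    haveI : Group.IsNilpotent G := Group.nilpotent_of_mulEquiv topEquiv
    infer_instance
  have hsub : ∀ L : Subgroup G, L ≠ ⊤ → (∀ g ∈ L, ∃ a ∈ A ⊓ L, ∃ b ∈ B ⊓ L, g = a * b) →
      Group.IsSolvable L := by
    intro L hL hfac
    refine ih _ (hn ▸ card_lt_of_ne_top hL) L rfl ((A ⊓ L).subgroupOf L) ((B ⊓ L).subgroupOf L) ?_ ?_ ?_ ?_
    · haveI : Group.IsNilpotent ↥((A ⊓ L).subgroupOf A) := Subgroup.isNilpotent _
      exact Group.nilpotent_of_mulEquiv ((subgroupOfEquivOfLe (inf_le_left : A ⊓ L ≤ A)).trans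
        (subgroupOfEquivOfLe (inf_le_right : A ⊓ L ≤ L)).symm)
    · haveI : Group.IsNilpotent ↥((B ⊓ L).subgroupOf B) := Subgroup.isNilpotent _
      exact Group.nilpotent_of_mulEquiv ((subgroupOfEquivOfLe (inf_le_left : B ⊓ L ≤ B)).trans
        (subgroupOfEquivOfLe (inf_le_right : B ⊓ L ≤ L)).symm)
    · rw [card_subgroupOf inf_le_right, card_subgroupOf inf_le_right]
      exact (hcop.coprime_dvd_left (card_dvd_of_le inf_le_left)).coprime_dvd_right (card_dvd_of_le inf_le_left)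
    · intro g
      obtain ⟨a, ha, b, hb, e⟩ := hfac g g.2
      exact ⟨⟨a, ha.2⟩, ha, ⟨b, hb.2⟩, hb, Subtype.ext e⟩
  by_cases hns : ∃ K : Subgroup G, K.Normal ∧ K ≠ ⊥ ∧ K ≠ ⊤
  · obtain ⟨K, hKn, hK1, hK2⟩ := hns
    have hq : Group.IsSolvable (G ⧸ K) := by
      refine ih _ (hn ▸ card_quotient_lt hK1) (G ⧸ K) rfl (A.map (QuotientGroup.mk' K))
        (B.map (QuotientGroup.mk' K)) ?_ ?_ ?_ ?_
      · exact Group.nilpotent_of_surjective ((QuotientGroup.mk' K).subgroupMap A)
          ((QuotientGroup.mk' K).subgroupMap_surjective A)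
      · exact Group.nilpotent_of_surjective ((QuotientGroup.mk' K).subgroupMap B)
          ((QuotientGroup.mk' K).subgroupMap_surjective B)
      · exact (hcop.coprime_dvd_left (card_map_dvd _ _)).coprime_dvd_right (card_map_dvd _ _)
      · intro x
        obtain ⟨g, rfl⟩ := QuotientGroup.mk_surjective x
        obtain ⟨a, ha, b, hb, rfl⟩ := hfact g
        exact ⟨_, mem_map_of_mem _ ha, _, mem_map_of_mem _ hb, rfl⟩
    have hKs : Group.IsSolvable K := by
      refine hsub K hK2 fun g hg => ?_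
      have hinf : A ⊓ B = ⊥ := Coprime.inf_eq_bot_of_coprime hcop
      have hcard : Nat.card G = Nat.card A * Nat.card B := by
        have h1 := Coprime.card_coe_mul_mul_card_inf A B
        rw [hinf, card_bot, mul_one] at h1
        rw [← h1, show ((A : Set G) * (B : Set G)) = Set.univ from Set.eq_univ_of_forall fun x => by
          obtain ⟨a, ha, b, hb, rfl⟩ := hfact x
          exact Set.mul_mem_mul ha hb]
        exact (Nat.card_congr (Equiv.Set.univ G)).symm
      have hidx : A.index = Nat.card B :=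
        Nat.eq_of_mul_eq_mul_left Nat.card_pos (A.card_mul_index.trans hcard)
      have hidx' : B.index = Nat.card A := Nat.eq_of_mul_eq_mul_left Nat.card_pos
        (B.card_mul_index.trans (hcard.trans (mul_comm _ _)))
      have hc : (A.subgroupOf K).index.Coprime (B.subgroupOf K).index :=
        (hcop.symm.coprime_dvd_left ((relIndex_normal_dvd_index A K).trans hidx.dvd)).coprime_dvd_right
          ((relIndex_normal_dvd_index B K).trans hidx'.dvd)
      obtain ⟨a, ha, b, hb, e⟩ := exists_mul_of_coprime_index hc ⟨g, hg⟩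
      exact ⟨a, ⟨ha, a.2⟩, b, ⟨hb, b.2⟩, congrArg Subtype.val e⟩
    exact Group.isSolvable_of_ker_le_range K.subtype (QuotientGroup.mk' K) (by simp)
  push_neg at hns
  haveI : Nontrivial G := by
    obtain ⟨x, -, hx⟩ := (Subgroup.ne_bot_iff_exists_ne_one.mp hA1).elim fun x hx =>
      (⟨x.1, x.2, fun e => hx (Subtype.ext e)⟩ : ∃ x ∈ A, x ≠ 1)
    exact nontrivial_of_ne x 1 hx
  haveI hsimple : IsSimpleGroup G := ⟨fun K hK => or_iff_not_imp_left.mpr fun h1 => hns K hK h1⟩
  have hone : ∀ X Y : Subgroup G, Group.IsNilpotent X → X ≠ ⊥ → X.index = Nat.card Y →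
      (∃ p, p.Prime ∧ ∀ q, q.Prime → q ∣ Nat.card Y → q = p) → Group.IsSolvable G := by
    rintro X Y hX hX1 hXY ⟨p, hp, hpY⟩
    haveI := hX
    haveI : Nontrivial X := (nontrivial_iff_ne_bot X).mpr hX1
    haveI : Nontrivial (center X) := (nontrivial_iff_ne_bot _).mpr (Group.IsNilpotent.center_ne_bot X)
    obtain ⟨z, hz1⟩ := exists_ne (1 : center X)
    have hdvd : (centralizer ({((z : X) : G)} : Set G)).index ∣ Nat.card Y := hXY ▸ index_dvd_of_le fun y hy =>
      mem_centralizer_singleton_iff.mpr (congrArg Subtype.val (mem_center_iff.mp z.2 ⟨y, hy⟩))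
    obtain ⟨k, hk⟩ : ∃ k, (centralizer ({((z : X) : G)} : Set G)).index = p ^ k :=
      ⟨_, Nat.eq_prime_pow_of_unique_prime_dvd index_ne_zero_of_finite fun {q} hq hqd => hpY q hq (hqd.trans hdvd)⟩
    have hprime := Lib.Char.prime_card_of_index_centralizer hp
      (g := ((z : X) : G)) (fun e => hz1 (Subtype.ext (Subtype.ext e))) hk
    haveI := Fact.mk hprime
    haveI : IsCyclic G := isCyclic_of_prime_card rfl
    exact Group.isSolvable_of_comm fun x y => by letI := IsCyclic.commGroup (α := G); exact mul_comm x y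
  have hinf : A ⊓ B = ⊥ := Coprime.inf_eq_bot_of_coprime hcop
  by_cases h2A : ∀ p : ℕ, ∃ q, q.Prime ∧ q ∣ Nat.card A ∧ q ≠ p
  · by_cases h2B : ∀ p : ℕ, ∃ q, q.Prime ∧ q ∣ Nat.card B ∧ q ≠ p
    · exact (Data.false (A := A) (B := B) ⟨hsimple, hA, hB, hcop, hfact, hA1, hB1, h2A, h2B, hsub⟩).elim
    · push_neg at h2B
      obtain ⟨p, hp⟩ := h2B
      obtain ⟨q, hq, hqd⟩ := Nat.exists_prime_and_dvd (mt card_eq_one.mp hB1)
      refine hone A B hA hA1 ?_ ⟨p, hp q hq hqd ▸ hq, hp⟩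
      have h1 := Coprime.card_coe_mul_mul_card_inf A B
      rw [hinf, card_bot, mul_one, show ((A : Set G) * (B : Set G)) = Set.univ from
        Set.eq_univ_of_forall fun x => by
          obtain ⟨a, ha, b, hb, rfl⟩ := hfact x; exact Set.mul_mem_mul ha hb,
        Nat.card_congr (Equiv.Set.univ G), ← A.card_mul_index] at h1
      exact Nat.eq_of_mul_eq_mul_left Nat.card_pos h1
  · push_neg at h2A
    obtain ⟨p, hp⟩ := h2A
    obtain ⟨q, hq, hqd⟩ := Nat.exists_prime_and_dvd (mt card_eq_one.mp hA1)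
    refine hone B A hB hB1 ?_ ⟨p, hp q hq hqd ▸ hq, hp⟩
    have h1 := Coprime.card_coe_mul_mul_card_inf A B
    rw [hinf, card_bot, mul_one, show ((A : Set G) * (B : Set G)) = Set.univ from
      Set.eq_univ_of_forall fun x => by
        obtain ⟨a, ha, b, hb, rfl⟩ := hfact x; exact Set.mul_mem_mul ha hb,
      Nat.card_congr (Equiv.Set.univ G), ← B.card_mul_index, mul_comm (Nat.card A)] at h1
    exact Nat.eq_of_mul_eq_mul_left Nat.card_pos h1

/-- **Wielandt.** -/
theorem isSolvable [Finite G] (A B : Subgroup G) (hA : Group.IsNilpotent A) (hB : Group.IsNilpotent B)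
    (hcop : (Nat.card A).Coprime (Nat.card B)) (hfact : ∀ g : G, ∃ a ∈ A, ∃ b ∈ B, g = a * b) :
    Group.IsSolvable G :=
  solvable_aux _ G rfl A B hA hB hcop hfact

end Cfsg.Agent.Lib.Hall.CoprimeProduct
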