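import Cfsg.Agent.Lib.Hall.Systems
import Cfsg.Agent.Lib.Uniq.PGroup

/-! Carter subgroups and their relation with system normalizers. -/

set_option autoImplicit false

namespace Cfsg.Agent.Lib.Hall

open scoped Pointwise commutatorElement
open Subgroup Cfsg.Agent.Lib.Coprime Cfsg

universe u

variable {G : Type u} [Group G]

/-- `S` normal in `C`, of order prime to its index there, contains the elements killed by `|S|`. -/
theorem mem_of_pow_card {S C : Subgroup G} (hn : C ≤ normalizer (S : Set G))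
    (hcop : (Nat.card S).Coprime (S.relIndex C)) {x : G} (hx : x ∈ C) (hx1 : x ^ Nat.card S = 1) :
    x ∈ S := by
  have hN : (S.subgroupOf C).Normal := ⟨fun y hy g => (mem_normalizer_iff.mp (hn g.2) _).mp hy⟩
  have h2 : x ^ S.relIndex C ∈ S := pow_index_mem (H := S.subgroupOf C) (⟨x, hx⟩ : C)
  obtain ⟨s, t, hst⟩ : IsCoprime (Nat.card S : ℤ) (S.relIndex C : ℤ) :=
    Int.isCoprime_iff_nat_coprime.mpr (by simpa using hcop)
  rw [← zpow_one x, ← hst, zpow_add, mul_comm s, mul_comm t, zpow_mul, zpow_natCast, hx1, one_zpow,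
    one_mul, zpow_mul, zpow_natCast]
  exact zpow_mem h2 t

/-- Hall subgroups of nilpotent groups are normal. -/
theorem normal_of_hall_nilpotent [Finite G] [Group.IsNilpotent G] (S : Subgroup G)
    (h : (Nat.card S).Coprime S.index) : S.Normal := by
  rw [← normalizer_eq_top_iff]
  by_contra hne
  have hlt := Group.normalizerCondition_of_isNilpotent (normalizer (S : Set G)) (lt_top_iff_ne_top.mpr hne)
  obtain ⟨g, hg, hg'⟩ := SetLike.exists_of_lt hlt
  refine hg' (mem_normalizer_of_conj_smul_eq ?_)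
  refine eq_of_le_of_card_ge ?_ (card_conj_smul g S).ge
  intro y hy
  refine mem_of_pow_card le_rfl (h.coprime_dvd_right ⟨_, (relIndex_mul_index le_normalizer).symm⟩) ?_ ?_
  · rw [← conj_smul_eq_self hg]
    exact mem_conj_smul.mpr (le_normalizer (mem_conj_smul.mp hy))
  · obtain ⟨s, hs, rfl⟩ : ∃ s ∈ S, g * s * g⁻¹ = y := ⟨_, mem_conj_smul.mp hy, by group⟩
    rw [conj_pow, show s ^ Nat.card S = 1 from
      congrArg Subtype.val (pow_card_eq_one' (x := (⟨s, hs⟩ : S)))]
    simp

/-- With `N` a normal `r`-group with nilpotent quotient, the normalizer of a Hall `r'`-subgroup is a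
Carter subgroup supplementing `N`. -/
theorem isCarter_normalizer [Finite G] [Group.IsSolvable G] {r : ℕ} [hr : Fact r.Prime] (N : Subgroup G)
    [N.Normal] (hN : IsPGroup r N) (hGN : Group.IsNilpotent (G ⧸ N)) {S : Subgroup G}
    (hS : ¬ r ∣ Nat.card S) (hidx : ∃ e, S.index = r ^ e) :
    IsCarterSubgroup (normalizer (S : Set G)) ∧ normalizer (S : Set G) ⊔ N = ⊤ := by
  obtain ⟨e, he⟩ := hidx
  obtain ⟨f, hf⟩ := IsPGroup.iff_card.mp hN
  have hScop : ∀ k, (Nat.card S).Coprime (r ^ k) := fun k =>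
    (Nat.Coprime.pow_right k ((hr.out.coprime_iff_not_dvd.mpr hS).symm))
  set C := normalizer (S : Set G) with hC
  have hSC : S ≤ C := le_normalizer
  obtain ⟨e', -, he'⟩ : ∃ e', e' ≤ e ∧ S.relIndex C = r ^ e' :=
    (Nat.dvd_prime_pow hr.out).mp (he ▸ ⟨_, (relIndex_mul_index hSC).symm⟩)
  have hSN : S ⊓ N = ⊥ := Coprime.inf_eq_bot_of_coprime (hf ▸ hScop f)
  haveI hSn : (S.subgroupOf C).Normal := normal_in_normalizer
  have hnil : Group.IsNilpotent C := by
    have : Group.IsNilpotent (C ⧸ S.subgroupOf C) := (IsPGroup.of_card (p := r) (n := e') he').isNilpotent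
    let f : C →* (C ⧸ S.subgroupOf C) × (G ⧸ N) :=
      (QuotientGroup.mk' _).prod ((QuotientGroup.mk' N).comp C.subtype)
    have hinj : Function.Injective f := by
      rw [← MonoidHom.ker_eq_bot_iff, eq_bot_iff]
      intro x hx
      simp only [f, MonoidHom.mem_ker, MonoidHom.prod_apply, Prod.mk_eq_one, QuotientGroup.mk'_apply,
        MonoidHom.comp_apply, coe_subtype, QuotientGroup.eq_one_iff, mem_subgroupOf] at hx
      rw [mem_bot]
      exact Subtype.ext (mem_bot.mp (hSN ▸ mem_inf.mpr hx))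
    exact Group.nilpotent_of_mulEquiv (G := f.range) (MonoidHom.ofInjective hinj).symm
  refine ⟨⟨hnil, le_antisymm (fun g hg => ?_) le_normalizer⟩, ?_⟩
  · refine mem_normalizer_of_conj_smul_eq (eq_of_le_of_card_ge ?_ (card_conj_smul g S).ge)
    intro y hy
    refine mem_of_pow_card le_rfl (he' ▸ hScop e') ?_ ?_
    · show y ∈ C
      rw [← conj_smul_eq_self hg]
      exact mem_conj_smul.mpr (hSC (mem_conj_smul.mp hy))
    · obtain ⟨s, hs, rfl⟩ : ∃ s ∈ S, g * s * g⁻¹ = y := ⟨_, mem_conj_smul.mp hy, by group⟩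
      rw [conj_pow, show s ^ Nat.card S = 1 from
        congrArg Subtype.val (pow_card_eq_one' (x := (⟨s, hs⟩ : S)))]
      simp
  -- Frattini argument
  set Q := S.map (QuotientGroup.mk' N)
  haveI : Q.Normal := normal_of_hall_nilpotent Q
    (((he ▸ hScop e : (Nat.card S).Coprime S.index).coprime_dvd_left (card_map_dvd _ _)).coprime_dvd_right
      (index_map_dvd _ (QuotientGroup.mk'_surjective N)))
  set T := S ⊔ N with hT
  haveI : T.Normal := by
    have : T = Q.comap (QuotientGroup.mk' N) := by rw [comap_map_eq, QuotientGroup.ker_mk']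
    rw [this]; infer_instance
  rw [eq_top_iff]
  intro g _
  have hgS : MulAut.conj g • S ≤ T := by
    refine le_trans ?_ (conj_smul_of_normal T g).le
    exact pointwise_smul_le_pointwise_smul_iff.mpr le_sup_left
  obtain ⟨t, ht⟩ := exists_conj_eq (H := S.subgroupOf T) (K := (MulAut.conj g • S).subgroupOf T) (by
      rw [card_subgroupOf le_sup_left]
      exact (he ▸ hScop e : (Nat.card S).Coprime S.index).coprime_dvd_right
        ⟨_, (relIndex_mul_index le_sup_left).symm⟩)
    (by rw [card_subgroupOf hgS, card_subgroupOf le_sup_left, card_conj_smul])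
  have ht' := congrArg (Subgroup.map T.subtype) ht
  rw [map_conj_smul, map_subgroupOf_eq_of_le le_sup_left, map_subgroupOf_eq_of_le hgS] at ht'
  have htm : (t : G) ∈ N ⊔ S := (sup_comm S N).le t.2
  rw [← SetLike.mem_coe, normal_mul] at htm
  obtain ⟨n, hn, s, hs, htns⟩ := htm
  rw [show T.subtype t = n * s from htns.symm, conj_smul_mul, conj_smul_eq_self (le_normalizer hs)] at ht'
  have : n⁻¹ * g ∈ C := mem_normalizer_of_conj_smul_eq (by rw [conj_smul_mul, ← ht', conj_inv_smul_smul])
  have h2 := mul_mem_sup (S := N) (T := C) hn this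
  rwa [sup_comm, mul_inv_cancel_left] at h2

/-- `C` meets every member of `K` in a subgroup of `p`-power index. -/
def Reduces (K : Nat.Primes → Subgroup G) (C : Subgroup G) : Prop :=
  ∀ p : Nat.Primes, ∃ e, (K p).relIndex C = (p : ℕ) ^ e

theorem normal_pgroup_le_member [Finite G] {K : Nat.Primes → Subgroup G} (hK : IsComplementSystem K)
    {N : Subgroup G} [N.Normal] {r : ℕ} [hr : Fact r.Prime] (hN : IsPGroup r N) {p : Nat.Primes}
    (hp : (p : ℕ) ≠ r) : N ≤ K p := by
  obtain ⟨f, hf⟩ := IsPGroup.iff_card.mp hN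
  rw [← relIndex_eq_one]
  refine Nat.dvd_one.mp ?_
  have h1 : (K p).relIndex N ∣ (p : ℕ) ^ (Nat.card G).factorization p :=
    hK p ▸ relIndex_normal_dvd_index (K p) N
  have h2 : (K p).relIndex N ∣ r ^ f := hf ▸ index_dvd_card _
  exact (((Nat.coprime_primes p.2 hr.out).mpr hp).pow _ _) ▸ Nat.dvd_gcd h1 h2

/-- `|H N|·|H ∩ N| = |H|·|N|` for a normal `N`, as indices. -/
theorem relIndex_sup_normal_eq [Finite G] {A C N : Subgroup G} [N.Normal] (hA : N ≤ A) :
    A.relIndex (C ⊔ N) = A.relIndex C := by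
  have h1 := (A.subgroupOf (C ⊔ N)).index_mul_card
  have h2 := (A.subgroupOf C).index_mul_card
  have h3 := card_sup_mul_card_inf N C
  have h4 := card_sup_mul_card_inf N (A ⊓ C)
  have e1 : A ⊓ (C ⊔ N) = (A ⊓ C) ⊔ N := by
    apply le_antisymm
    · intro x hx
      obtain ⟨hxA, hx⟩ := mem_inf.mp hx
      rw [← SetLike.mem_coe, mul_normal] at hx
      obtain ⟨c, hc, n, hn, rfl⟩ := hx
      refine mul_mem_sup ⟨?_, hc⟩ hn
      have := A.mul_mem hxA (A.inv_mem (hA hn))
      simpa using this
    · exact sup_le (inf_le_inf_left _ le_sup_left) (le_inf hA le_sup_right)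
  have e2 : (A ⊓ C) ⊓ N = C ⊓ N := by
    apply le_antisymm
    · exact inf_le_inf_right _ inf_le_right
    · exact le_inf (le_inf (inf_le_right.trans hA) inf_le_left) inf_le_right
  rw [card_subgroupOf_inf] at h1 h2
  rw [e1] at h1
  rw [e2] at h4
  change A.relIndex (C ⊔ N) * _ = _ at h1
  change A.relIndex C * _ = _ at h2
  have hpos : 0 < Nat.card ↥(A ⊓ C) * Nat.card N := Nat.mul_pos Nat.card_pos Nat.card_pos
  apply mul_right_cancel₀ hpos.ne'
  calc A.relIndex (C ⊔ N) * (Nat.card ↥(A ⊓ C) * Nat.card N)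
      = A.relIndex (C ⊔ N) * Nat.card ↥((A ⊓ C) ⊔ N) * Nat.card ↥(C ⊓ N) := by rw [← h4]; ring
    _ = Nat.card ↥(C ⊔ N) * Nat.card ↥(C ⊓ N) := by rw [h1]
    _ = Nat.card C * Nat.card N := h3
    _ = _ := by rw [← h2]; ring

theorem exists_carter_aux (n : ℕ) : ∀ (G : Type u) [Group G] [Finite G] [Group.IsSolvable G],
    Nat.card G = n → ∀ K : Nat.Primes → Subgroup G, IsComplementSystem K →
      ∃ C : Subgroup G, IsCarterSubgroup C ∧ systemNormalizer K ≤ C ∧ Reduces K C := by
  induction n using Nat.strong_induction_on with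
  | _ n ih => ?_
  intro G _ _ _ hn K hK
  rcases subsingleton_or_nontrivial G with hG | hG
  · refine ⟨⊤, ⟨?_, Subsingleton.elim _ _⟩, le_top, fun p => ⟨0, ?_⟩⟩
    · exact Group.isNilpotent_of_subsingleton
    · rw [pow_zero, relIndex_eq_one]; exact (Subsingleton.elim _ _ : (⊤ : Subgroup G) = K p).le
  obtain ⟨N, r, hNn, hN1, hr, hNp, -, -⟩ := exists_normal_pgroup (G := G)
  haveI := Fact.mk hr
  let r₀ : Nat.Primes := ⟨r, hr⟩
  obtain ⟨C₁, hC₁, hD₁, hred⟩ :=
    ih _ (hn ▸ card_quotient_lt hN1) (G ⧸ N) rfl _ (system_map hK N)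
  rw [systemNormalizer_map hK N] at hD₁
  set T := C₁.comap (QuotientGroup.mk' N) with hTdef
  have hNT : N ≤ T := fun x hx => by
    rw [hTdef, mem_comap, QuotientGroup.mk'_apply, (QuotientGroup.eq_one_iff x).mpr hx]
    exact one_mem _
  have hTmap : T.map (QuotientGroup.mk' N) = C₁ :=
    map_comap_eq_self_of_surjective (QuotientGroup.mk'_surjective N) C₁
  have hTnil : Group.IsNilpotent (T ⧸ N.subgroupOf T) := by
    let f : T ⧸ N.subgroupOf T →* C₁ := QuotientGroup.lift _
      (((QuotientGroup.mk' N).comp T.subtype).codRestrict C₁ fun x => x.2)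
      fun x hx => Subtype.ext ((QuotientGroup.eq_one_iff (x : G)).mpr hx)
    have hinj : Function.Injective f := by
      rw [← MonoidHom.ker_eq_bot_iff, eq_bot_iff]
      intro x hx
      obtain ⟨x, rfl⟩ := QuotientGroup.mk_surjective x
      rw [mem_bot, QuotientGroup.eq_one_iff]
      exact (QuotientGroup.eq_one_iff (x : G)).mp (congrArg Subtype.val (MonoidHom.mem_ker.mp hx))
    have := hC₁.1
    exact Group.nilpotent_of_mulEquiv (G := f.range) (MonoidHom.ofInjective hinj).symm
  have hr' : ∀ p : Nat.Primes, (p : ℕ) = r → ∃ e, (K p).relIndex T = r ^ e := by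
    intro p hp
    obtain ⟨a, ha⟩ := hred p
    obtain ⟨f, hf⟩ := IsPGroup.iff_card.mp hNp
    have hA : ((K p) ⊔ N).relIndex T = r ^ a := by
      rw [← hp, ← ha, ← hTmap, relIndex_map_map, QuotientGroup.ker_mk', sup_eq_left.mpr hNT]
    have e1 : (K p ⊔ N) ⊓ T = (K p ⊓ T) ⊔ N := by
      apply le_antisymm
      · intro x hx
        obtain ⟨hx, hxT⟩ := mem_inf.mp hx
        rw [← SetLike.mem_coe, mul_normal] at hx
        obtain ⟨c, hc, n, hn, rfl⟩ := hx
        refine mul_mem_sup ⟨hc, ?_⟩ hn
        have := T.mul_mem hxT (T.inv_mem (hNT hn))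
        simpa using this
      · exact sup_le (inf_le_inf_right _ le_sup_left) (le_inf le_sup_right hNT)
    have e2 : K p ⊓ T ⊓ N = ⊥ := by
      refine Coprime.inf_eq_bot_of_coprime ?_
      rw [hf]
      refine (Nat.Coprime.pow_right f ((hr.coprime_iff_not_dvd.mpr fun h => ?_).symm))
      exact system_not_dvd_card hK p (hp ▸ h.trans (card_dvd_of_le inf_le_left))
    have h4 := card_sup_mul_card_inf N (K p ⊓ T)
    rw [e2, card_bot, mul_one] at h4
    have h1 := ((K p ⊔ N).subgroupOf T).index_mul_card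
    have h2 := ((K p).subgroupOf T).index_mul_card
    rw [card_subgroupOf_inf] at h1 h2
    change (K p ⊔ N).relIndex T * _ = _ at h1
    change (K p).relIndex T * _ = _ at h2
    rw [hA, e1, h4, hf] at h1
    refine ⟨a + f, mul_right_cancel₀ (Nat.card_pos (α := ↥(K p ⊓ T))).ne' ?_⟩
    rw [h2, ← h1, pow_add]; ring
  obtain ⟨hcart, hsup⟩ := isCarter_normalizer (N.subgroupOf T)
    (hNp.of_equiv (subgroupOfEquivOfLe hNT).symm) hTnil (S := (K r₀).subgroupOf T)
    (by
      rw [card_subgroupOf_inf]
      exact fun h => system_not_dvd_card hK r₀ (h.trans (card_dvd_of_le inf_le_left)))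
    (hr' _ rfl)
  set CT := normalizer (((K r₀).subgroupOf T : Subgroup T) : Set T)
  set C := CT.map T.subtype with hCdef
  have hCN : C ⊔ N = T := by
    have := congrArg (Subgroup.map T.subtype) hsup
    rwa [Subgroup.map_sup, map_subgroupOf_eq_of_le hNT, ← MonoidHom.range_eq_map, range_subtype] at this
  have hCT : C ≤ T := map_subtype_le _
  refine ⟨C, ⟨?_, ?_⟩, ?_, fun p => ?_⟩
  · haveI := hcart.1
    exact Group.nilpotent_of_mulEquiv (equivMapOfInjective CT T.subtype T.subtype_injective)
  · refine le_antisymm (fun g hg => ?_) le_normalizer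
    have hgT : g ∈ T := by
      have h : MulAut.conj g • T = T := by
        rw [← hCN, smul_sup, conj_smul_eq_self hg, conj_smul_of_normal]
      rw [hTdef, mem_comap, ← hC₁.2]
      refine mem_normalizer_of_conj_smul_eq ?_
      rw [← hTmap, ← map_conj_smul, h]
    refine ⟨⟨g, hgT⟩, ?_, rfl⟩
    rw [SetLike.mem_coe, ← hcart.2]
    refine mem_normalizer_of_conj_smul_eq (map_injective T.subtype_injective ?_)
    rw [map_conj_smul, coe_subtype, conj_smul_eq_self hg]
  · intro d hd
    have hdT : d ∈ T := hD₁ (mem_map_of_mem _ hd)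
    refine ⟨⟨d, hdT⟩, mem_normalizer_of_conj_smul_eq (map_injective T.subtype_injective ?_), rfl⟩
    rw [map_conj_smul, subgroupOf_map_subtype, coe_subtype, conj_smul_inf,
      conj_smul_eq_self (mem_systemNormalizer.mp hd _), conj_smul_eq_self (le_normalizer hdT)]
  · by_cases hp : (p : ℕ) = r
    · obtain ⟨e, he⟩ := hr' p hp
      have hpe : p = r₀ := Subtype.ext hp
      have hS : ((K p).subgroupOf T).map T.subtype ≤ C := map_mono (hpe ▸ le_normalizer)
      rw [subgroupOf_map_subtype] at hS
      have h1 : (K p).relIndex C ∣ (K p).relIndex T := by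
        rw [← inf_relIndex_right (K p) T, ← relIndex_mul_relIndex _ _ _ hS hCT]
        exact (relIndex_dvd_of_le_left C inf_le_left).trans (dvd_mul_right _ _)
      obtain ⟨e', -, he'⟩ := (Nat.dvd_prime_pow hr).mp (he ▸ h1)
      exact ⟨e', hp ▸ he'⟩
    · have hNK : N ≤ K p := normal_pgroup_le_member hK hNp hp
      obtain ⟨e, he⟩ := hred p
      refine ⟨e, ?_⟩
      rw [← relIndex_sup_normal_eq hNK, hCN, ← he, ← hTmap, relIndex_map_map, QuotientGroup.ker_mk',
        sup_eq_left.mpr hNK, sup_eq_left.mpr hNT]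

/-- Every system normalizer lies in a Carter subgroup. -/
theorem exists_carter_ge [Finite G] [Group.IsSolvable G] {K : Nat.Primes → Subgroup G}
    (hK : IsComplementSystem K) : ∃ C : Subgroup G, IsCarterSubgroup C ∧ systemNormalizer K ≤ C := by
  obtain ⟨C, hC, hD, -⟩ := exists_carter_aux _ G rfl K hK
  exact ⟨C, hC, hD⟩

omit [Group G] in
theorem isCarter_subgroupOf {G : Type u} [Group G] {C T : Subgroup G} (hC : IsCarterSubgroup C)
    (h : C ≤ T) : IsCarterSubgroup (C.subgroupOf T) := by
  refine ⟨?_, ?_⟩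
  · haveI := hC.1
    exact Group.nilpotent_of_mulEquiv (subgroupOfEquivOfLe h).symm
  · refine le_antisymm (fun g hg => ?_) le_normalizer
    rw [mem_subgroupOf, ← hC.2]
    refine mem_normalizer_of_conj_smul_eq ?_
    have := congrArg (Subgroup.map T.subtype) (conj_smul_eq_self hg)
    rwa [map_conj_smul, map_subgroupOf_eq_of_le h] at this

theorem isCarter_conj [Finite G] {C : Subgroup G} (hC : IsCarterSubgroup C) (g : G) :
    IsCarterSubgroup (MulAut.conj g • C) := by
  refine ⟨?_, ?_⟩
  · haveI := hC.1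
    exact Group.nilpotent_of_mulEquiv (equivSMul (MulAut.conj g) C)
  · refine le_antisymm (fun x hx => ?_) le_normalizer
    have h : g⁻¹ * x * g ∈ normalizer (C : Set G) := mem_normalizer_of_conj_smul_eq (by
      rw [conj_smul_mul, conj_smul_mul, conj_smul_eq_self hx, conj_inv_smul_smul])
    rw [hC.2] at h
    exact mem_conj_smul.mpr h

/-- A Carter subgroup supplementing a normal `r`-subgroup is a normalizer of a Hall `r'`-subgroup. -/
theorem carter_eq_normalizer [Finite G] [Group.IsSolvable G] {r : ℕ} [hr : Fact r.Prime]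
    (N : Subgroup G) [N.Normal] (hN : IsPGroup r N) {C : Subgroup G} (hC : IsCarterSubgroup C)
    (hCN : C ⊔ N = ⊤) :
    Group.IsNilpotent (G ⧸ N) ∧ ∃ S : Subgroup G, ¬ r ∣ Nat.card S ∧ (∃ e, S.index = r ^ e) ∧
      C = normalizer (S : Set G) := by
  haveI := hC.1
  have hq : Group.IsNilpotent (G ⧸ N) := by
    refine Group.nilpotent_of_surjective ((QuotientGroup.mk' N).comp C.subtype) fun x => ?_
    obtain ⟨x, rfl⟩ := QuotientGroup.mk_surjective x
    have hx : x ∈ C ⊔ N := hCN ▸ mem_top x
    rw [← SetLike.mem_coe, mul_normal] at hx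
    obtain ⟨c, hc, n, hn, rfl⟩ := hx
    exact ⟨⟨c, hc⟩, by simp [(QuotientGroup.eq_one_iff n).mpr hn]⟩
  refine ⟨hq, ?_⟩
  have hpos : Nat.card C ≠ 0 := Nat.card_pos.ne'
  obtain ⟨S₀, hS₀⟩ := exists_subgroup_card_eq (G := C) (m := Nat.card C / r ^ (Nat.card C).factorization r)
    (n := r ^ (Nat.card C).factorization r) (Nat.div_mul_cancel (Nat.ordProj_dvd _ _)).symm
    (Nat.Coprime.pow_right _ (Nat.coprime_ordCompl hr.out hpos).symm)
  have hS0i : S₀.index = r ^ (Nat.card C).factorization r := by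
    have h := S₀.card_mul_index
    rw [hS₀] at h
    conv_rhs at h => rw [← Nat.div_mul_cancel (Nat.ordProj_dvd (Nat.card C) r)]
    exact mul_left_cancel₀ (Nat.ordCompl_pos r hpos).ne' h
  haveI : S₀.Normal := normal_of_hall_nilpotent S₀ (by
    rw [hS₀, hS0i]; exact Nat.Coprime.pow_right _ (Nat.coprime_ordCompl hr.out hpos).symm)
  set S := S₀.map C.subtype with hSdef
  have hSc : Nat.card S = Nat.card C / r ^ (Nat.card C).factorization r := by
    rw [hSdef, card_map_of_injective C.subtype_injective, hS₀]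
  have hSr : ¬ r ∣ Nat.card S := hSc ▸ Nat.not_dvd_ordCompl hr.out hpos
  obtain ⟨f, hf⟩ := IsPGroup.iff_card.mp hN
  obtain ⟨g, -, hg⟩ : ∃ g, g ≤ f ∧ C.index = r ^ g := by
    refine (Nat.dvd_prime_pow hr.out).mp ?_
    have h : C.relIndex N = C.index := by
      rw [relIndex_left_sup le_normalizer_of_normal, hCN, relIndex_top_right]
    rw [← h, ← hf]
    exact index_dvd_card _
  have hidx : ∃ e, S.index = r ^ e :=
    ⟨(Nat.card C).factorization r + g, by rw [hSdef, index_map_subtype, hS0i, hg, pow_add]⟩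
  refine ⟨S, hSr, hidx, ?_⟩
  obtain ⟨hcart, -⟩ := isCarter_normalizer N hN hq hSr hidx
  have hle : C ≤ normalizer (S : Set G) := by
    have h := le_normalizer_map (H := S₀) C.subtype
    rwa [normalizer_eq_top, ← MonoidHom.range_eq_map, range_subtype] at h
  haveI := hcart.1
  by_contra hne
  obtain ⟨x, hx, hxC⟩ := SetLike.exists_of_lt (Group.normalizerCondition_of_isNilpotent
    (C.subgroupOf (normalizer (S : Set G))) (lt_top_iff_ne_top.mpr fun h =>
      hne (le_antisymm hle (subgroupOf_eq_top.mp h))))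
  refine hxC (mem_subgroupOf.mpr ?_)
  rw [← hC.2]
  refine mem_normalizer_of_conj_smul_eq ?_
  have := congrArg (Subgroup.map (normalizer (S : Set G)).subtype) (conj_smul_eq_self hx)
  rwa [map_conj_smul, map_subgroupOf_eq_of_le hle] at this

theorem carter_conj_aux (n : ℕ) : ∀ (G : Type u) [Group G] [Finite G] [Group.IsSolvable G],
    Nat.card G = n → ∀ C D : Subgroup G, IsCarterSubgroup C → IsCarterSubgroup D →
      ∃ g : G, MulAut.conj g • C = D := by
  induction n using Nat.strong_induction_on with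
  | _ n ih => ?_
  intro G _ _ _ hn C D hC hD
  rcases subsingleton_or_nontrivial G with hG | hG
  · exact ⟨1, Subsingleton.elim _ _⟩
  obtain ⟨N, r, hNn, hN1, hr, hNp, -, -⟩ := exists_normal_pgroup (G := G)
  haveI := Fact.mk hr
  have hsub : ∀ T : Subgroup G, T ≠ ⊤ → ∀ A B : Subgroup G, IsCarterSubgroup A → IsCarterSubgroup B →
      A ≤ T → B ≤ T → ∃ t ∈ T, MulAut.conj t • A = B := by
    intro T hT A B hA hB hAT hBT
    obtain ⟨t, ht⟩ := ih _ (hn ▸ card_lt_of_ne_top hT) T rfl _ _ (isCarter_subgroupOf hA hAT)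
      (isCarter_subgroupOf hB hBT)
    refine ⟨t, t.2, ?_⟩
    have := congrArg (Subgroup.map T.subtype) ht
    rwa [map_conj_smul, map_subgroupOf_eq_of_le hAT, map_subgroupOf_eq_of_le hBT] at this
  have himg : ∀ A : Subgroup G, IsCarterSubgroup A → IsCarterSubgroup (A.map (QuotientGroup.mk' N)) := by
    intro A hA
    refine ⟨?_, le_antisymm (fun x hx => ?_) le_normalizer⟩
    · haveI := hA.1
      exact Group.nilpotent_of_surjective ((QuotientGroup.mk' N).subgroupMap A)
        ((QuotientGroup.mk' N).subgroupMap_surjective A)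
    obtain ⟨g, rfl⟩ := QuotientGroup.mk'_surjective N x
    have hgA : MulAut.conj g • (A ⊔ N) = A ⊔ N := by
      have h := eq_of_map_mk'_eq (M := N) (H := MulAut.conj g • A) (K := A)
        (by rw [map_conj_smul, conj_smul_eq_self hx])
      rwa [smul_sup, conj_smul_of_normal N]
    suffices hmem : g ∈ A ⊔ N by
      have := mem_map_of_mem (QuotientGroup.mk' N) hmem
      rwa [Subgroup.map_sup, QuotientGroup.map_mk'_self, sup_bot_eq] at this
    by_cases hT : A ⊔ N = ⊤
    · exact hT ▸ mem_top g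
    have hle : MulAut.conj g • A ≤ A ⊔ N :=
      (pointwise_smul_le_pointwise_smul_iff.mpr le_sup_left).trans hgA.le
    obtain ⟨t, htT, ht⟩ := hsub _ hT _ _ (isCarter_conj hA g) hA hle le_sup_left
    have h2 : t * g ∈ A := by
      rw [← hA.2]
      exact mem_normalizer_of_conj_smul_eq (by rw [conj_smul_mul, ht])
    have h3 := (A ⊔ N).mul_mem ((A ⊔ N).inv_mem htT) (mem_sup_left h2)
    simpa using h3
  obtain ⟨x, hx⟩ := ih _ (hn ▸ card_quotient_lt hN1) (G ⧸ N) rfl _ _ (himg C hC) (himg D hD)
  obtain ⟨g, rfl⟩ := QuotientGroup.mk'_surjective N x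
  set C' := MulAut.conj g • C with hC'
  have hC'c : IsCarterSubgroup C' := isCarter_conj hC g
  have hT : C' ⊔ N = D ⊔ N := eq_of_map_mk'_eq (by rw [map_conj_smul]; exact hx)
  suffices h : ∃ t, MulAut.conj t • C' = D by
    obtain ⟨t, ht⟩ := h
    exact ⟨t * g, by rw [conj_smul_mul]; exact ht⟩
  by_cases htop : C' ⊔ N = ⊤
  · obtain ⟨-, S, hS, ⟨e, he⟩, hCS⟩ := carter_eq_normalizer N hNp hC'c htop
    obtain ⟨-, S', hS', ⟨e', he'⟩, hDS⟩ := carter_eq_normalizer N hNp hD (hT ▸ htop)
    have hc : ∀ (U : Subgroup G) (e : ℕ), ¬ r ∣ Nat.card U → U.index = r ^ e →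
        (Nat.card U).Coprime U.index := fun U e h1 h2 => by
      rw [h2]; exact Nat.Coprime.pow_right _ ((hr.coprime_iff_not_dvd.mpr h1).symm)
    have hcard : Nat.card S' = Nat.card S := by
      have h1 := congrArg (fun m => m / r ^ m.factorization r) (S.card_mul_index.trans S'.card_mul_index.symm)
      simp only [he, he', Nat.ordCompl_mul] at h1
      rwa [Nat.ordCompl_self_pow hr, Nat.ordCompl_self_pow hr, mul_one, mul_one,
        Nat.factorization_eq_zero_of_not_dvd hS, Nat.factorization_eq_zero_of_not_dvd hS', pow_zero,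
        Nat.div_one, Nat.div_one, eq_comm] at h1
    obtain ⟨t, ht⟩ := exists_conj_eq (hc S e hS he) hcard
    refine ⟨t, ?_⟩
    rw [hCS, hDS, ← ht]
    ext y
    rw [mem_conj_smul]
    constructor
    · intro hy
      refine mem_normalizer_of_conj_smul_eq ?_
      have := congrArg (MulAut.conj t • ·) (conj_smul_eq_self hy)
      simp only [conj_smul_mul, conj_smul_inv_smul] at this
      exact this
    · intro hy
      refine mem_normalizer_of_conj_smul_eq ?_
      rw [conj_smul_mul, conj_smul_mul, conj_smul_eq_self hy, conj_inv_smul_smul]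
  · obtain ⟨t, -, ht⟩ := hsub _ htop C' D hC'c hD le_sup_left (hT ▸ le_sup_left)
    exact ⟨t, ht⟩

/-- Carter subgroups are conjugate. -/
theorem carter_conj [Finite G] [Group.IsSolvable G] {C D : Subgroup G} (hC : IsCarterSubgroup C)
    (hD : IsCarterSubgroup D) : ∃ g : G, MulAut.conj g • C = D :=
  carter_conj_aux _ G rfl C D hC hD

theorem systemNormalizer_conj (K : Nat.Primes → Subgroup G) (g : G) :
    systemNormalizer (fun p => MulAut.conj g • K p) = MulAut.conj g • systemNormalizer K := by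
  ext x
  rw [mem_conj_smul, mem_systemNormalizer, mem_systemNormalizer]
  refine forall_congr' fun p => ⟨fun h => ?_, fun h => ?_⟩
  · refine mem_normalizer_of_conj_smul_eq ?_
    rw [conj_smul_mul, conj_smul_mul, conj_smul_eq_self h, conj_inv_smul_smul]
  · refine mem_normalizer_of_conj_smul_eq ?_
    have := congrArg (MulAut.conj g • ·) (conj_smul_eq_self h)
    simp only [conj_smul_mul, conj_smul_inv_smul] at this
    exact this

end Cfsg.Agent.Lib.Hall

namespace Cfsg.Agent.Lib.Hall

open scoped Pointwise commutatorElement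
open Subgroup Cfsg.Agent.Lib.Coprime Cfsg

universe u

variable {G : Type u} [Group G]

theorem center_le_systemNormalizer (K : Nat.Primes → Subgroup G) : center G ≤ systemNormalizer K := by
  intro x hx
  refine mem_systemNormalizer.mpr fun p => mem_normalizer_iff.mpr fun y => ?_
  rw [← mem_center_iff.mp hx y, mul_inv_cancel_right]

/-- A system normalizer avoids the noncentral minimal normal subgroups. -/
theorem inf_systemNormalizer_eq_bot [Finite G] [Group.IsSolvable G] {K : Nat.Primes → Subgroup G}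
    (hK : IsComplementSystem K) (B : Subgroup G) [B.Normal]
    (hmin : ∀ M : Subgroup G, M.Normal → M ≤ B → M = ⊥ ∨ M = B) (hB : ¬ B ≤ center G) :
    B ⊓ systemNormalizer K = ⊥ := by
  have hB1 : B ≠ ⊥ := fun h => hB (h ▸ bot_le)
  obtain ⟨hBc, q, hq, hpow⟩ := minimal_normal_solvable B hB1 hmin
  haveI := Fact.mk hq
  let q₀ : Nat.Primes := ⟨q, hq⟩
  by_contra hne
  obtain ⟨b, hb, hb1⟩ := (Subgroup.ne_bot_iff_exists_ne_one.mp hne).elim fun x hx =>
    (⟨x.1, x.2, fun h => hx (Subtype.ext h)⟩ : ∃ b ∈ B ⊓ systemNormalizer K, b ≠ 1)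
  obtain ⟨hbB, hbD⟩ := mem_inf.mp hb
  have hbK : ∀ k ∈ K q₀, k * b = b * k := by
    intro k hk
    have h1 : ⁅b, k⁆ ∈ B ⊓ K q₀ := by
      refine mem_inf.mpr ⟨?_, ?_⟩
      · rw [commutatorElement_def, mul_assoc, mul_assoc, ← mul_assoc k]
        exact B.mul_mem hbB (Subgroup.Normal.conj_mem inferInstance _ (B.inv_mem hbB) k)
      · rw [commutatorElement_def]
        exact (K q₀).mul_mem ((mem_normalizer_iff.mp (mem_systemNormalizer.mp hbD q₀) k).mp hk)
          ((K q₀).inv_mem hk)
    have hbot : B ⊓ K q₀ = ⊥ := Coprime.inf_eq_bot_of_coprime (by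
      obtain ⟨e, he⟩ := IsPGroup.iff_card.mp (isPGroup_of_pow_eq_one hpow)
      rw [he]
      exact Nat.Coprime.pow_left e (hq.coprime_iff_not_dvd.mpr (system_not_dvd_card hK q₀)))
    rw [hbot, mem_bot, commutatorElement_eq_one_iff_mul_comm] at h1
    exact h1.symm
  set C := centralizer (B : Set G) with hC
  haveI hCn : C.Normal := normal_centralizer
  have hCtop : C ≠ ⊤ := fun h => hB fun x hx => mem_center_iff.mpr fun g =>
    (mem_centralizer_iff.mp (h ▸ mem_top g : g ∈ C) x hx).symm
  haveI : Nontrivial (G ⧸ C) := QuotientGroup.nontrivial_iff.mpr hCtop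
  obtain ⟨L', r, hL'n, hL'1, hr, hL'p, -, -⟩ := exists_normal_pgroup (G := G ⧸ C)
  haveI := Fact.mk hr
  set L := L'.comap (QuotientGroup.mk' C) with hL
  have hCL : C ≤ L := fun x hx => by
    rw [hL, mem_comap, QuotientGroup.mk'_apply, (QuotientGroup.eq_one_iff x).mpr hx]
    exact one_mem _
  have hBC : B ≤ C := le_centralizer_iff_isMulCommutative.mpr hBc
  -- `L` has a fixed point on `B`
  obtain ⟨w, hwB, hw1, hwL⟩ : ∃ w ∈ B, w ≠ 1 ∧ ∀ l ∈ L, l * w = w * l := by
    by_cases hrq : r = q
    · subst hrq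
      obtain ⟨P⟩ : Nonempty (Sylow r L) := inferInstance
      set Q := (P : Subgroup L).map L.subtype with hQdef
      have hQp : IsPGroup r Q := P.2.map _
      have hBQ : B ≤ Q := by
        intro x hx
        have hBp : IsPGroup r (B.subgroupOf L) :=
          ((isPGroup_of_pow_eq_one hpow).of_equiv (subgroupOfEquivOfLe (hBC.trans hCL)).symm)
        have hle : B.subgroupOf L ≤ (P : Subgroup L) :=
          (le_pCore hBp).trans (pCore_le_sylow P)
        exact ⟨⟨x, hCL (hBC hx)⟩, hle (mem_subgroupOf.mpr hx), rfl⟩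
      have hLQ : L ≤ C ⊔ Q := by
        rw [← relIndex_eq_one]
        refine Nat.dvd_one.mp ?_
        have h1 : (C ⊔ Q).relIndex L ∣ C.relIndex L := relIndex_dvd_of_le_left L le_sup_left
        have h2 : (C ⊔ Q).relIndex L ∣ Q.relIndex L := relIndex_dvd_of_le_left L le_sup_right
        have h3 : Q.relIndex L = (P : Subgroup L).index := by
          rw [hQdef, relIndex, subgroupOf, comap_map_eq_self_of_injective L.subtype_injective]
        obtain ⟨e, he⟩ : ∃ e, C.relIndex L = r ^ e := by
          obtain ⟨e, he⟩ := IsPGroup.iff_card.mp hL'p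
          refine ⟨e, ?_⟩
          have h := relIndex_comap (⊥ : Subgroup (G ⧸ C)) (QuotientGroup.mk' C) L
          rw [MonoidHom.comap_bot, QuotientGroup.ker_mk', hL, map_comap_eq_self_of_surjective
            (QuotientGroup.mk'_surjective C), relIndex_bot_left, he] at h
          exact h
        rw [h3] at h2
        rw [he] at h1
        have hcop : (r ^ e).Coprime (P : Subgroup L).index :=
          Nat.Coprime.pow_left e (hr.coprime_iff_not_dvd.mpr P.not_dvd_index)
        exact hcop ▸ Nat.dvd_gcd h1 h2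
      obtain ⟨z, hz, hz1, hzc⟩ : ∃ z ∈ B.subgroupOf Q, z ≠ 1 ∧ z ∈ center Q := by
        refine Uniq.exists_central_mem hQp _ fun h => hB1 (eq_bot_iff.mpr fun x hx => ?_)
        have := h.le (show (⟨x, hBQ hx⟩ : Q) ∈ B.subgroupOf Q from hx)
        simpa using congrArg Subtype.val (mem_bot.mp this)
      refine ⟨z, hz, fun h => hz1 (Subtype.ext h), fun l hl => ?_⟩
      have : C ⊔ Q ≤ centralizer ({(z : G)} : Set G) := sup_le
        (fun c hc => mem_centralizer_singleton_iff.mpr ((mem_centralizer_iff.mp hc _ hz).symm))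
        (fun y hy => mem_centralizer_singleton_iff.mpr
          (congrArg Subtype.val (mem_center_iff.mp hzc ⟨y, hy⟩)))
      exact mem_centralizer_singleton_iff.mp (this (hLQ hl))
    · have hle : L ≤ K q₀ ⊔ C := by
        have h := comap_mono (f := QuotientGroup.mk' C)
          (normal_pgroup_le_member (system_map hK C) hL'p (p := q₀) (fun h => hrq h.symm))
        rwa [comap_map_eq, QuotientGroup.ker_mk'] at h
      refine ⟨b, hbB, hb1, fun l hl => ?_⟩
      have : K q₀ ⊔ C ≤ centralizer ({b} : Set G) := sup_le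
        (fun k hk => mem_centralizer_singleton_iff.mpr (hbK k hk))
        (fun c hc => mem_centralizer_singleton_iff.mpr ((mem_centralizer_iff.mp hc _ hbB).symm))
      exact mem_centralizer_singleton_iff.mp (this (hle hl))
  haveI : L.Normal := hL'n.comap _
  haveI : (centralizer (L : Set G)).Normal := normal_centralizer
  have hW := hmin (B ⊓ centralizer (L : Set G)) inferInstance inf_le_left
  rcases hW with h | h
  · exact hw1 (mem_bot.mp (h ▸ mem_inf.mpr ⟨hwB, mem_centralizer_iff.mpr hwL⟩))
  · apply hL'1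
    have hLC : L ≤ C := by
      intro l hl
      rw [mem_centralizer_iff]
      intro x hx
      exact ((mem_centralizer_iff.mp (inf_eq_left.mp h hx)) l hl).symm
    rw [← map_comap_eq_self_of_surjective (QuotientGroup.mk'_surjective C) L', eq_bot_iff]
    exact (map_mono hLC).trans (by rw [QuotientGroup.map_mk'_self])

theorem systemNormalizer_sup_eq_top [Finite G] [Group.IsSolvable G] {K : Nat.Primes → Subgroup G}
    (hK : IsComplementSystem K) (F : Subgroup G) [F.Normal] (hGF : Group.IsNilpotent (G ⧸ F)) :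
    systemNormalizer K ⊔ F = ⊤ := by
  have h : (systemNormalizer K).map (QuotientGroup.mk' F) = ⊤ := by
    rw [← systemNormalizer_map hK F, eq_top_iff]
    intro x _
    refine mem_systemNormalizer.mpr fun p => ?_
    have hp := system_not_dvd_card (system_map hK F) p
    have := normal_of_hall_nilpotent ((K p).map (QuotientGroup.mk' F)) (by
      rw [system_map hK F p]
      exact Nat.Coprime.pow_right _ ((p.2.coprime_iff_not_dvd.mpr hp).symm))
    rw [normalizer_eq_top]
    exact mem_top x
  have h2 := congrArg (Subgroup.comap (QuotientGroup.mk' F)) h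
  rwa [comap_map_eq, QuotientGroup.ker_mk', comap_top] at h2

theorem systemNormalizer_selfNormalizing_aux (n : ℕ) : ∀ (G : Type u) [Group G] [Finite G]
    [Group.IsSolvable G], Nat.card G = n → ∀ (F : Subgroup G) [F.Normal], Group.IsNilpotent F →
      Group.IsNilpotent (G ⧸ F) → ∀ K : Nat.Primes → Subgroup G, IsComplementSystem K →
        normalizer (systemNormalizer K : Set G) = systemNormalizer K := by
  induction n using Nat.strong_induction_on with
  | _ n ih => ?_
  intro G _ _ _ hn F _ hF hGF K hK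
  refine le_antisymm (fun g hg => ?_) le_normalizer
  have hsup := systemNormalizer_sup_eq_top hK F hGF
  set D := systemNormalizer K with hD
  by_cases hF1 : F = ⊥
  · rw [hF1, sup_bot_eq] at hsup
    exact hsup ▸ mem_top g
  obtain ⟨B, hBn, hB1, hBF, hmin⟩ := exists_minimal_normal_le (N := F) hF1
  haveI : (F.map (QuotientGroup.mk' B)).Normal :=
    Normal.map inferInstance _ (QuotientGroup.mk'_surjective B)
  have hGF' : Group.IsNilpotent ((G ⧸ B) ⧸ F.map (QuotientGroup.mk' B)) := by
    refine Group.nilpotent_of_surjective (QuotientGroup.map F (F.map (QuotientGroup.mk' B))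
      (QuotientGroup.mk' B) (le_comap_map _ _)) fun x => ?_
    obtain ⟨x, rfl⟩ := QuotientGroup.mk_surjective x
    obtain ⟨y, rfl⟩ := QuotientGroup.mk_surjective x
    exact ⟨y, rfl⟩
  have hF' : Group.IsNilpotent (F.map (QuotientGroup.mk' B)) :=
    Group.nilpotent_of_surjective ((QuotientGroup.mk' B).subgroupMap F)
      ((QuotientGroup.mk' B).subgroupMap_surjective F)
  have hih := ih _ (hn ▸ card_quotient_lt hB1) (G ⧸ B) rfl _ hF' hGF' _ (system_map hK B)
  rw [systemNormalizer_map hK B, ← hD] at hih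
  have hgD : g ∈ D ⊔ B := by
    rw [show D ⊔ B = (D.map (QuotientGroup.mk' B)).comap (QuotientGroup.mk' B) by
      rw [comap_map_eq, QuotientGroup.ker_mk'], mem_comap, ← hih]
    refine mem_normalizer_of_conj_smul_eq ?_
    rw [← map_conj_smul, conj_smul_eq_self hg]
  rw [← SetLike.mem_coe, mul_normal] at hgD
  obtain ⟨d, hd, b, hb, rfl⟩ := hgD
  refine D.mul_mem hd ?_
  have hbN : b ∈ normalizer (D : Set G) := by
    have := mul_mem (inv_mem (le_normalizer hd)) hg
    simpa using this
  by_cases hBz : B ≤ center G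
  · exact center_le_systemNormalizer K (hBz hb)
  have hbot : B ⊓ D = ⊥ := inf_systemNormalizer_eq_bot hK B hmin hBz
  have hbD : ∀ d ∈ D, d * b = b * d := by
    intro d hd
    have h1 : ⁅b, d⁆ ∈ B ⊓ D := by
      refine mem_inf.mpr ⟨?_, ?_⟩
      · rw [commutatorElement_def, mul_assoc, mul_assoc, ← mul_assoc d]
        exact B.mul_mem hb (Subgroup.Normal.conj_mem inferInstance _ (B.inv_mem hb) d)
      · rw [commutatorElement_def]
        exact D.mul_mem ((mem_normalizer_iff.mp hbN d).mp hd) (D.inv_mem hd)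
    rw [hbot, mem_bot, commutatorElement_eq_one_iff_mul_comm] at h1
    exact h1.symm
  have hBFc : ⁅B, F⁆ = ⊥ := by
    refine (hmin _ inferInstance (commutator_le_left B F)).resolve_right fun he => hB1 ?_
    obtain ⟨k, hk⟩ := _root_.nilpotent_iff_lowerCentralSeries.mp hF
    have : ∀ k, B ≤ ((⊤ : Subgroup F).lowerCentralSeries k).map F.subtype := by
      intro k
      induction k with
      | zero => simpa [← MonoidHom.range_eq_map] using hBF
      | succ k ihk =>
        rw [Subgroup.lowerCentralSeries_succ, map_commutator, ← MonoidHom.range_eq_map, range_subtype]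
        exact he.ge.trans (commutator_mono ihk le_rfl)
    rw [eq_bot_iff]
    exact (this k).trans (by rw [hk, Subgroup.map_bot])
  have hbc : b ∈ center G := by
    have hle : D ⊔ F ≤ centralizer ({b} : Set G) := sup_le
      (fun d hd => mem_centralizer_singleton_iff.mpr (hbD d hd))
      (fun f hf => mem_centralizer_singleton_iff.mpr (commutatorElement_eq_one_iff_mul_comm.mp
        (mem_bot.mp (hBFc ▸ commutator_mem_commutator hb hf))).symm)
    rw [hsup] at hle
    exact mem_center_iff.mpr fun x => mem_centralizer_singleton_iff.mp (hle (mem_top x))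
  rcases hmin (B ⊓ center G) inferInstance inf_le_left with h | h
  · rw [show b = 1 from mem_bot.mp (h ▸ mem_inf.mpr ⟨hb, hbc⟩)]; exact one_mem _
  · exact absurd (inf_eq_left.mp h) hBz

theorem systemNormalizer_isCarter [Finite G] [Group.IsSolvable G] (F : Subgroup G) [F.Normal]
    (hF : Group.IsNilpotent F) (hGF : Group.IsNilpotent (G ⧸ F)) {K : Nat.Primes → Subgroup G}
    (hK : IsComplementSystem K) : IsCarterSubgroup (systemNormalizer K) :=
  ⟨systemNormalizer_isNilpotent hK, systemNormalizer_selfNormalizing_aux _ G rfl F hF hGF K hK⟩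

end Cfsg.Agent.Lib.Hall
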