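import Cfsg.Agent.Lib.Hall.Basic
import Mathlib.GroupTheory.GroupAction.Quotient

/-! Elementary facts on Frobenius complements (trivial intersection counting, no characters). -/

set_option autoImplicit false

namespace Cfsg.Agent.Lib.Hall

open scoped Pointwise
open Subgroup Cfsg.Agent.Lib.Coprime

variable {G : Type*} [Group G]

/-- The nonidentity elements lying in some conjugate of `H`. -/
def covered (H : Subgroup G) : Set G := {x | x ≠ 1 ∧ ∃ g : G, x ∈ MulAut.conj g • H}

variable {H : Subgroup G}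

theorem fc_eq_one (hH : IsFrobeniusComplement H) {g x : G} (hg : g ∉ H) (hx : x ∈ H)
    (hx' : x ∈ MulAut.conj g • H) : x = 1 := by
  have : x ∈ H ⊓ MulAut.conj g • H := ⟨hx, hx'⟩
  rwa [hH.2.2 g hg, mem_bot] at this

theorem fc_inter (hH : IsFrobeniusComplement H) {a b x : G} (hx1 : x ≠ 1)
    (ha : x ∈ MulAut.conj a • H) (hb : x ∈ MulAut.conj b • H) :
    a⁻¹ * b ∈ H := by
  by_contra hn
  refine hx1 ?_
  have h1 : a⁻¹ * x * a ∈ H := mem_conj_smul.mp ha
  have h2 : a⁻¹ * x * a ∈ MulAut.conj (a⁻¹ * b) • H := by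
    rw [mem_conj_smul]
    have := mem_conj_smul.mp hb
    simpa [mul_assoc] using this
  have h3 := fc_eq_one hH hn h1 h2
  calc x = a * (a⁻¹ * x * a) * a⁻¹ := by group
    _ = 1 := by rw [h3]; group

theorem fc_centralizer_le (hH : IsFrobeniusComplement H) {x : G} (hx : x ∈ H) (hx1 : x ≠ 1) :
    centralizer ({x} : Set G) ≤ H := by
  intro c hc
  by_contra hn
  refine hx1 (fc_eq_one hH hn hx (mem_conj_smul.mpr ?_))
  rwa [mul_assoc, ← mem_centralizer_singleton_iff.mp hc, inv_mul_cancel_left]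

theorem fc_conj (hH : IsFrobeniusComplement H) (g : G) :
    IsFrobeniusComplement (MulAut.conj g • H) := by
  refine ⟨fun h => hH.1 ?_, fun h => hH.2.1 ?_, fun a ha => ?_⟩
  · rw [← conj_inv_smul_smul g H, h, smul_bot]
  · rw [← conj_inv_smul_smul g H, h]
    exact conj_smul_of_normal ⊤ _
  · rw [eq_bot_iff]
    rintro x ⟨hx, hx'⟩
    rw [mem_bot]
    by_contra hx1
    rw [← conj_smul_mul] at hx'
    have h := fc_inter hH hx1 hx hx'
    rw [← mul_assoc] at h
    exact ha (mem_conj_smul.mpr h)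

theorem covered_conj (g : G) : covered (MulAut.conj g • H) = covered H := by
  ext x
  simp only [covered, Set.mem_setOf_eq]
  constructor
  · rintro ⟨hx, a, ha⟩
    exact ⟨hx, a * g, by rwa [conj_smul_mul]⟩
  · rintro ⟨hx, a, ha⟩
    exact ⟨hx, a * g⁻¹, by rwa [← conj_smul_mul, inv_mul_cancel_right]⟩

/-- The union of the conjugates of a set of nonidentity elements of `H` invariant under `H`. -/
theorem card_conjugates [Finite G] (hH : IsFrobeniusComplement H) (S : Set G)
    (hS : ∀ x ∈ S, x ∈ H ∧ x ≠ 1) (hinv : ∀ h ∈ H, ∀ x ∈ S, h * x * h⁻¹ ∈ S) :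
    Nat.card {x : G | ∃ g : G, g⁻¹ * x * g ∈ S} = H.index * Nat.card S := by
  let f : (G ⧸ H) × S → {x : G | ∃ g : G, g⁻¹ * x * g ∈ S} := fun y =>
    ⟨y.1.out * (y.2 : G) * y.1.out⁻¹, y.1.out, by simp [mul_assoc]⟩
  have hbij : Function.Bijective f := by
    constructor
    · rintro ⟨q, s⟩ ⟨q', s'⟩ h
      have h' : q.out * (s : G) * q.out⁻¹ = q'.out * (s' : G) * q'.out⁻¹ := congrArg Subtype.val h
      have hne : q.out * (s : G) * q.out⁻¹ ≠ 1 := fun h1 =>
        (hS _ s.2).2 (by
          calc (s : G) = q.out⁻¹ * (q.out * (s : G) * q.out⁻¹) * q.out := by group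
            _ = 1 := by rw [h1]; group)
      have hm := fc_inter hH hne (conj_mem_conj_smul (hS _ s.2).1)
        (h' ▸ conj_mem_conj_smul (hS _ s'.2).1)
      have hq : q = q' := by
        rw [← q.out_eq, ← q'.out_eq]; exact QuotientGroup.eq.mpr hm
      subst hq
      have : (s : G) = s' := by simpa using congrArg (fun y => q.out⁻¹ * y * q.out) h'
      rw [Subtype.ext this]
    · rintro ⟨x, g, hg⟩
      let q : G ⧸ H := g
      have hm : q.out⁻¹ * g ∈ H := QuotientGroup.eq.mp q.out_eq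
      refine ⟨(q, ⟨(q.out⁻¹ * g) * (g⁻¹ * x * g) * (q.out⁻¹ * g)⁻¹, hinv _ hm _ hg⟩), Subtype.ext ?_⟩
      simp [f]
      group
  rw [← Nat.card_congr (Equiv.ofBijective f hbij), Nat.card_prod]
  rfl

theorem card_nonidentity [Finite G] (K : Subgroup G) :
    Nat.card {x : G | x ∈ K ∧ x ≠ 1} + 1 = Nat.card K := by
  have h : {x : G | x ∈ K ∧ x ≠ 1} = (K : Set G) \ {1} := by ext; simp
  rw [h, Nat.card_coe_set_eq, Set.ncard_sdiff_singleton_of_mem K.one_mem]
  have : 0 < (K : Set G).ncard := (Set.ncard_pos).mpr ⟨1, K.one_mem⟩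
  rw [Nat.sub_add_cancel this, ← Nat.card_coe_set_eq]
  rfl

theorem card_covered_add_index [Finite G] (hH : IsFrobeniusComplement H) :
    Nat.card (covered H) + H.index = Nat.card G := by
  have h1 := card_conjugates hH {x : G | x ∈ H ∧ x ≠ 1} (fun x hx => hx) fun h hh x hx =>
    ⟨H.mul_mem (H.mul_mem hh hx.1) (H.inv_mem hh), by simpa using hx.2⟩
  have h2 : {x : G | ∃ g : G, g⁻¹ * x * g ∈ {x : G | x ∈ H ∧ x ≠ 1}} = covered H := by
    ext x
    simp only [covered, Set.mem_setOf_eq, mem_conj_smul]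
    constructor
    · rintro ⟨g, hg, hg1⟩
      exact ⟨fun h => hg1 (by rw [h]; group), g, hg⟩
    · rintro ⟨hx, g, hg⟩
      exact ⟨g, hg, fun h => hx (by
        calc x = g * (g⁻¹ * x * g) * g⁻¹ := by group
          _ = 1 := by rw [h]; group)⟩
  rw [h2] at h1
  rw [h1, ← mul_add_one, card_nonidentity, index_mul_card]

theorem card_le_two_mul_covered [Finite G] (hH : IsFrobeniusComplement H) :
    Nat.card G ≤ 2 * Nat.card (covered H) := by
  have h1 := card_covered_add_index hH
  have h2 : 2 ≤ Nat.card H := H.one_lt_card_iff_ne_bot.mpr hH.1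
  have h3 := H.index_mul_card
  have : H.index * 2 ≤ H.index * Nat.card H := Nat.mul_le_mul_left _ h2
  omega

/-- The covered sets of two Frobenius complements meet. -/
theorem covered_inter [Finite G] {K : Subgroup G} (hH : IsFrobeniusComplement H)
    (hK : IsFrobeniusComplement K) : ∃ x, x ∈ covered H ∧ x ∈ covered K := by
  by_contra hno
  push Not at hno
  have hd : Disjoint (covered H) (covered K) := Set.disjoint_left.mpr hno
  have hsub : covered H ∪ covered K ⊆ Set.univ \ {1} := by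
    rintro x (hx | hx) <;> exact ⟨trivial, hx.1⟩
  have h := Set.ncard_le_ncard hsub
  rw [Set.ncard_union_eq hd, Set.ncard_sdiff_singleton_of_mem (Set.mem_univ _), Set.ncard_univ,
    ← Nat.card_coe_set_eq, ← Nat.card_coe_set_eq] at h
  have h1 := card_le_two_mul_covered hH
  have h2 := card_le_two_mul_covered hK
  have := Nat.card_pos (α := G)
  omega

theorem fc_subgroupOf (hH : IsFrobeniusComplement H) (L : Subgroup G) (h1 : H.subgroupOf L ≠ ⊥)
    (h2 : H.subgroupOf L ≠ ⊤) : IsFrobeniusComplement (H.subgroupOf L) := by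
  refine ⟨h1, h2, fun l hl => ?_⟩
  rw [eq_bot_iff]
  rintro x ⟨hx, hx'⟩
  rw [mem_bot]
  refine Subtype.ext (fc_eq_one hH (g := (l : G)) hl hx (mem_conj_smul.mpr ?_))
  exact (mem_conj_smul (H := H.subgroupOf L)).mp hx'

/-- Inside a subgroup `L`, all elements of conjugates of `H` come from a single `L`-class. -/
theorem inter_unique [Finite G] (hH : IsFrobeniusComplement H) (L : Subgroup G) {g : G}
    (h1 : (MulAut.conj g • H).subgroupOf L ≠ ⊥) {y : L} (hy : (y : G) ∈ covered H) :
    (∃ a : G, L ≤ MulAut.conj a • H) ∨ y ∈ covered ((MulAut.conj g • H).subgroupOf L) := by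
  by_cases htop : (MulAut.conj g • H).subgroupOf L = ⊤
  · exact Or.inl ⟨g, subgroupOf_eq_top.mp htop⟩
  obtain ⟨hy1, b, hb⟩ := hy
  have h1' : (MulAut.conj b • H).subgroupOf L ≠ ⊥ := by
    intro h
    have : y ∈ (MulAut.conj b • H).subgroupOf L := hb
    rw [h, mem_bot] at this
    exact hy1 (by rw [this]; rfl)
  by_cases htop' : (MulAut.conj b • H).subgroupOf L = ⊤
  · exact Or.inl ⟨b, subgroupOf_eq_top.mp htop'⟩
  right
  obtain ⟨z, ⟨hz1, c, hc⟩, ⟨-, d, hd⟩⟩ := covered_inter
    (fc_subgroupOf (fc_conj hH g) L h1 htop) (fc_subgroupOf (fc_conj hH b) L h1' htop')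
  have hc' : (z : G) ∈ MulAut.conj ((c : G) * g) • H := by
    rw [conj_smul_mul]; exact mem_conj_smul.mpr ((mem_conj_smul (H := (MulAut.conj g • H).subgroupOf L)).mp hc)
  have hd' : (z : G) ∈ MulAut.conj ((d : G) * b) • H := by
    rw [conj_smul_mul]; exact mem_conj_smul.mpr ((mem_conj_smul (H := (MulAut.conj b • H).subgroupOf L)).mp hd)
  have hm := fc_inter hH (fun h => hz1 (Subtype.ext h)) hc' hd'
  refine ⟨fun h => hy1 (by rw [h]; rfl), d⁻¹ * c, mem_conj_smul.mpr ?_⟩
  rw [mem_subgroupOf, mem_conj_smul]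
  have h2 := H.mul_mem (H.mul_mem hm (mem_conj_smul.mp hb)) (H.inv_mem hm)
  simpa [mul_assoc] using h2

/-- A subgroup whose nonidentity elements all lie in conjugates of `H` lies in one conjugate. -/
theorem le_conj_of_covered [Finite G] (hH : IsFrobeniusComplement H) (L : Subgroup G)
    (hL : ∀ x ∈ L, x ≠ 1 → x ∈ covered H) : ∃ a : G, L ≤ MulAut.conj a • H := by
  by_cases hbot : L = ⊥
  · exact ⟨1, hbot ▸ bot_le⟩
  obtain ⟨⟨x, hx⟩, hx1⟩ := L.bot_or_exists_ne_one.resolve_left hbot |> fun ⟨x, h, h'⟩ =>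
    (⟨⟨x, h⟩, h'⟩ : ∃ x : L, (x : G) ≠ 1)
  obtain ⟨-, g, hg⟩ := hL x hx hx1
  have h1 : (MulAut.conj g • H).subgroupOf L ≠ ⊥ := by
    intro h
    have : (⟨x, hx⟩ : L) ∈ (MulAut.conj g • H).subgroupOf L := hg
    rw [h, mem_bot] at this
    exact hx1 (congrArg Subtype.val this)
  by_contra hno
  have hne : (MulAut.conj g • H).subgroupOf L ≠ ⊤ := fun h => hno ⟨g, subgroupOf_eq_top.mp h⟩
  have hfc := fc_subgroupOf (fc_conj hH g) L h1 hne
  have hall : (Set.univ \ {1} : Set L) ⊆ covered ((MulAut.conj g • H).subgroupOf L) := fun y hy =>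
    (inter_unique hH L h1 (hL y y.2 fun h => hy.2 (Subtype.ext h))).resolve_left hno
  have h := Set.ncard_le_ncard hall
  rw [Set.ncard_sdiff_singleton_of_mem (Set.mem_univ _), Set.ncard_univ, ← Nat.card_coe_set_eq] at h
  have h2 := card_covered_add_index hfc
  have h3 := one_lt_index_of_ne_top hne
  omega

theorem fc_index_mod_card [Finite G] (hH : IsFrobeniusComplement H) :
    H.index % Nat.card H = 1 % Nat.card H := by
  classical
  have := Fintype.ofFinite G
  have h := MulAction.sum_card_fixedBy_eq_card_orbits_mul_card_group H (G ⧸ H)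
  rw [← Finset.add_sum_erase _ _ (Finset.mem_univ (1 : H))] at h
  have hfix : ∀ x ∈ (Finset.univ : Finset H).erase 1,
      Fintype.card (MulAction.fixedBy (G ⧸ H) x) = 1 := by
    intro x hx
    refine Fintype.card_eq_one_iff.mpr ⟨⟨((1 : G) : G ⧸ H), ?_⟩, ?_⟩
    · show (((x : G) * 1 : G) : G ⧸ H) = ((1 : G) : G ⧸ H)
      exact QuotientGroup.eq.mpr (by simpa using x.2)
    · rintro ⟨q, hq⟩
      obtain ⟨a, rfl⟩ := QuotientGroup.mk_surjective q
      refine Subtype.ext (QuotientGroup.eq.mpr ?_)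
      have h1 : ((x : G) * a)⁻¹ * a ∈ H :=
        QuotientGroup.eq.mp (hq : (((x : G) * a : G) : G ⧸ H) = ((a : G) : G ⧸ H))
      rw [mul_one, inv_mem_iff]
      by_contra hna
      refine (Finset.mem_erase.mp hx).1 (Subtype.ext ?_)
      refine inv_eq_one.mp (fc_eq_one hH hna (H.inv_mem x.2) (mem_conj_smul.mpr ?_))
      simpa [mul_assoc] using h1
  have h1 : Fintype.card (MulAction.fixedBy (G ⧸ H) (1 : H)) = H.index := by
    rw [index_eq_card, Nat.card_eq_fintype_card]
    exact Fintype.card_congr (Equiv.subtypeUnivEquiv fun q => one_smul H q)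
  rw [Finset.sum_congr rfl hfix, h1, Finset.sum_const, smul_eq_mul, mul_one,
    Finset.card_erase_of_mem (Finset.mem_univ _), Finset.card_univ, ← Nat.card_eq_fintype_card] at h
  have hpos : 0 < Nat.card H := Nat.card_pos
  have h2 : (H.index + (Nat.card H - 1) + 1) % Nat.card H = (0 + 1) % Nat.card H := by
    rw [h, Nat.add_mod, Nat.mul_mod_left]; simp
  rwa [show H.index + (Nat.card H - 1) + 1 = H.index + Nat.card H by omega, Nat.add_mod_right] at h2

/-- A Frobenius complement of order at most `|H|` is contained in a conjugate of `H`. -/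
theorem fc_le_conj_of_card_le [Finite G] {K : Subgroup G} (hH : IsFrobeniusComplement H)
    (hK : IsFrobeniusComplement K) (hle : Nat.card K ≤ Nat.card H) :
    ∃ a : G, K ≤ MulAut.conj a • H := by
  obtain ⟨x, ⟨hx1, b, hb⟩, ⟨-, c, hc⟩⟩ := covered_inter hH hK
  let K' := MulAut.conj c • K
  have hK' := fc_conj hK c
  let D := (MulAut.conj b • H).subgroupOf K'
  have hD : D ≠ ⊥ := by
    intro h
    have : (⟨x, hc⟩ : K') ∈ D := hb
    rw [h, mem_bot] at this
    exact hx1 (congrArg Subtype.val this)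
  by_contra hno
  have hno' : ¬ ∃ a : G, K' ≤ MulAut.conj a • H := by
    rintro ⟨a, ha⟩
    refine hno ⟨c⁻¹ * a, ?_⟩
    rw [conj_smul_mul, ← conj_inv_smul_smul c K]
    exact pointwise_smul_le_pointwise_smul_iff.mpr ha
  have hDtop : D ≠ ⊤ := fun h => hno' ⟨b, subgroupOf_eq_top.mp h⟩
  have hfD := fc_subgroupOf (fc_conj hH b) K' hD hDtop
  let S : Set G := (fun y : K' => (y : G)) '' covered D
  have hS := card_conjugates hK' S (by
    rintro _ ⟨y, hy, rfl⟩; exact ⟨y.2, fun h => hy.1 (Subtype.ext h)⟩) (by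
    rintro h hh _ ⟨y, ⟨hy1, a, ha⟩, rfl⟩
    refine ⟨⟨h, hh⟩ * y * (⟨h, hh⟩ : K')⁻¹, ⟨by simpa using hy1, ⟨h, hh⟩ * a, ?_⟩, rfl⟩
    rw [conj_smul_mul]; exact conj_mem_conj_smul ha)
  have hsub : covered H ∩ covered K ⊆ {x : G | ∃ g : G, g⁻¹ * x * g ∈ S} := by
    rintro y ⟨⟨hy1, e, he⟩, ⟨-, f, hf⟩⟩
    refine ⟨f * c⁻¹, ?_⟩
    have hyK : (f * c⁻¹)⁻¹ * y * (f * c⁻¹) ∈ K' :=
      mem_conj_smul.mpr (by simpa [mul_assoc] using mem_conj_smul.mp hf)
    have hcov : (f * c⁻¹)⁻¹ * y * (f * c⁻¹) ∈ covered H :=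
      ⟨fun h => hy1 (by simpa [mul_assoc] using congrArg (fun z => (f * c⁻¹) * z * (f * c⁻¹)⁻¹) h),
        (f * c⁻¹)⁻¹ * e, mem_conj_smul.mpr (by simpa [mul_assoc] using mem_conj_smul.mp he)⟩
    exact ⟨⟨_, hyK⟩, (inter_unique hH K' hD (y := ⟨_, hyK⟩) hcov).resolve_left hno', rfl⟩
  have h1 := Set.ncard_le_ncard hsub
  rw [← Nat.card_coe_set_eq {x : G | ∃ g : G, g⁻¹ * x * g ∈ S}, hS,
    Nat.card_image_of_injective Subtype.val_injective] at h1
  have h2 := Set.ncard_union_add_ncard_inter (covered H) (covered K)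
  have h3 : (covered H ∪ covered K).ncard + 1 ≤ Nat.card G := by
    have hsub' : covered H ∪ covered K ⊆ Set.univ \ {1} := by
      rintro x (hx | hx) <;> exact ⟨trivial, hx.1⟩
    have := Set.ncard_le_ncard hsub'
    rw [Set.ncard_sdiff_singleton_of_mem (Set.mem_univ _), Set.ncard_univ] at this
    have := Nat.card_pos (α := G)
    omega
  have h4 := card_covered_add_index hH
  have h5 := card_covered_add_index hK
  have h6 := card_covered_add_index hfD
  rw [Nat.card_coe_set_eq] at h4 h5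
  -- with `d = |D|` and `t = [K' : D]` we get `[G:K] t < [G:H] + [G:K]`
  have hKi : K'.index = K.index := by
    apply mul_left_cancel₀ (Nat.card_pos (α := K')).ne'
    rw [card_mul_index, card_conj_smul, card_mul_index]
  rw [hKi] at h1
  have hmul : K.index * Nat.card (covered D) + K.index * D.index = Nat.card G := by
    rw [← mul_add, h6, card_conj_smul, index_mul_card]
  have hHK : H.index ≤ K.index := by
    have := H.index_mul_card
    rw [← K.index_mul_card] at this
    by_contra hcon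
    push Not at hcon
    have := Nat.mul_lt_mul_of_lt_of_le hcon hle Nat.card_pos
    omega
  have ht : D.index < 2 := by
    by_contra hcon
    push Not at hcon
    have := Nat.mul_le_mul_left K.index hcon
    omega
  have := one_lt_index_of_ne_top hDtop
  omega

theorem frobeniusKernel_eq_compl : frobeniusKernel H = (covered H)ᶜ := by
  ext x
  simp only [frobeniusKernel, covered, Set.mem_setOf_eq, Set.mem_compl_iff, not_and, not_exists]
  tauto

theorem card_frobeniusKernel [Finite G] (hH : IsFrobeniusComplement H) :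
    Nat.card (frobeniusKernel H) = H.index := by
  have h := card_covered_add_index hH
  rw [frobeniusKernel_eq_compl, Nat.card_coe_set_eq, Set.ncard_compl, ← Nat.card_coe_set_eq]
  omega

end Cfsg.Agent.Lib.Hall
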