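import Cfsg.Agent.Lib.OddLocal.OddGL2
import Cfsg.Agent.Lib.Coprime.Basic
import Mathlib

/-!
Solvable groups of odd order of `2 × 2` matrices in odd characteristic `p` have derived groups of
exponent dividing `p`; consequences for automorphisms of groups of order `p²`.
-/

set_option autoImplicit false

namespace Cfsg.Agent.Lib.Hall

open Matrix Cfsg.Agent.Lib
open scoped commutatorElement

section
variable {F : Type*} [Field F] {p : ℕ} [hp : Fact p.Prime] [CharP F p]

local notation "M₂" => Matrix (Fin 2) (Fin 2) F

/-- The derived group of an odd solvable group of `2 × 2` matrices in characteristic `p ≠ 2` is killed by `p`. -/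
theorem commutator_pow_eq_one (hp2 : p ≠ 2) {H : Type*} [Group H] [Finite H] [Group.IsSolvable H]
    (hodd : Odd (Nat.card H)) (φ : H →* M₂) (hφ : Function.Injective φ) :
    ∀ d ∈ commutator H, d ^ p = 1 := by
  classical
  haveI : CharP M₂ p := inferInstance
  have h2F : (2 : F) ≠ 0 := by
    intro h
    have := (CharP.cast_eq_zero_iff F p 2).mp (by exact_mod_cast h)
    exact hp2 ((Nat.prime_dvd_prime_iff_eq hp.out Nat.prime_two).mp this)
  have hsq1 : ∀ x : H, x ^ 2 = 1 → x = 1 := fun x h => by
    rw [← orderOf_eq_one_iff]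
    exact Nat.eq_one_of_dvd_coprimes hodd.coprime_two_left (orderOf_dvd_of_pow_eq_one h)
      (orderOf_dvd_natCard x)
  have hinv : ∀ x : H, φ x * φ x⁻¹ = 1 := fun x => by rw [← map_mul, mul_inv_cancel, map_one]
  have hinv' : ∀ x : H, φ x⁻¹ * φ x = 1 := fun x => by rw [← map_mul, inv_mul_cancel, map_one]
  have hdet : ∀ d ∈ commutator H, (φ d).det = 1 := by
    let D : H →* Fˣ := (Units.map (Matrix.detMonoidHom (n := Fin 2) (R := F))).comp φ.toHomUnits
    intro d hd
    exact congrArg Units.val (MonoidHom.mem_ker.mp (Abelianization.commutator_subset_ker D hd))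
  by_cases hD : commutator H = ⊥
  · intro d hd; rw [hD, Subgroup.mem_bot] at hd; rw [hd, one_pow]
  obtain ⟨n, hn⟩ := (inferInstance : Group.IsSolvable H).solvable
  obtain ⟨k, hk1, hk2⟩ : ∃ k, derivedSeries H (k + 1) ≠ ⊥ ∧ derivedSeries H (k + 2) = ⊥ := by
    by_contra hno
    push Not at hno
    have h1 : ∀ k, derivedSeries H (k + 1) ≠ ⊥ := fun k => by
      induction k with
      | zero => rwa [derivedSeries_one]
      | succ k ih => exact hno k ih
    exact h1 n (le_bot_iff.mp ((derivedSeries_antitone H (Nat.le_succ n)).trans hn.le))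
  set N := derivedSeries H (k + 1) with hN
  have hNn : N.Normal := derivedSeries_normal H (k + 1)
  have hNc : ∀ x ∈ N, ∀ y ∈ N, x * y = y * x := fun x hx y hy => by
    rw [← commutatorElement_eq_one_iff_mul_comm, ← Subgroup.mem_bot, ← hk2, derivedSeries_succ]
    exact Subgroup.commutator_mem_commutator hx hy
  have hND : N ≤ commutator H := by
    rw [← derivedSeries_one]
    exact derivedSeries_antitone H (by omega : 1 ≤ k + 1)
  obtain ⟨g, hgN, hg1⟩ := N.bot_or_exists_ne_one.resolve_left hk1
  set A := φ g with hA'
  have hns : ∀ c : F, A ≠ c • 1 := by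
    intro c h
    have h1 := hdet g (hND hgN)
    rw [← hA', h] at h1
    refine hg1 (hsq1 g (hφ ?_))
    rw [map_pow, map_one, ← hA', h, smul_pow, one_pow]
    rw [Matrix.det_smul, Fintype.card_fin, Matrix.det_one, mul_one] at h1
    rw [h1, one_smul]
  set t := A.trace with ht
  have hA : A * A = t • A - (1 : M₂) := by
    rw [OddLocal.sq_eq_trace_smul_sub, hA', hdet g (hND hgN), one_smul]
  have hcase : t = 2 := by
    by_contra ht2
    by_cases htm : t = -2
    · have hs : (A + 1) * (A + 1) = 0 := by
        rw [add_mul, mul_add, mul_add, hA, htm]; simp only [one_mul, mul_one]; module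
      have hneg : A ^ p = -1 := by
        rw [eq_neg_iff_add_eq_zero, ← one_pow p, ← add_pow_char_of_commute p (Commute.one_right A)]
        obtain ⟨j, hj⟩ : ∃ j, p = j + 2 := ⟨p - 2, by have := hp.out.two_le; omega⟩
        rw [hj, pow_add, pow_two, hs, mul_zero]
      have hgp : g ^ p = 1 := by
        refine hsq1 _ (hφ ?_)
        rw [map_pow, map_pow, map_one, ← hA', hneg, neg_one_sq]
      have h1 : (-1 : M₂) = 1 := by rw [← hneg, hA', ← map_pow, hgp, map_one]
      have h2 := congrFun (congrFun h1 0) 0
      simp at h2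
      exact h2F (by linear_combination -h2)
    · -- every element centralises `g`
      have hcent : ∀ h : H, h * g = g * h := by
        intro h
        have hc : Commute (φ (h * g * h⁻¹)) A := by
          rw [hA', Commute, SemiconjBy, ← map_mul, ← map_mul, hNc _ (hNn.conj_mem g hgN h) g hgN]
        obtain ⟨a, b, hab⟩ := OddLocal.exists_eq_smul_add_smul hns hc
        have hg' : φ (h * g * h⁻¹) * φ (h * g * h⁻¹) = t • φ (h * g * h⁻¹) - (1 : M₂) := by
          have e1 : φ (h * g * h⁻¹) * φ (h * g * h⁻¹) = φ h * (A * A) * φ h⁻¹ := by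
            simp only [hA', ← map_mul]; congr 1; group
          rw [e1, hA, map_mul, map_mul, mul_sub, sub_mul, mul_one, hinv, mul_smul_comm, smul_mul_assoc]
        rw [hab] at hg'
        have hexp : (a • (1 : M₂) + b • A) * (a • (1 : M₂) + b • A) =
            (a ^ 2 - b ^ 2) • (1 : M₂) + (2 * a * b + b ^ 2 * t) • A := by
          simp only [add_mul, mul_add, smul_mul_assoc, mul_smul_comm, one_mul, mul_one, smul_smul, hA,
            smul_sub]
          module
        rw [hexp] at hg'
        have key : (a ^ 2 - b ^ 2 - t * a + 1) • (1 : M₂) + (2 * a * b + b ^ 2 * t - t * b) • A = 0 := by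
          rw [← sub_eq_zero] at hg'
          rw [← hg']; module
        have hcoef : 2 * a * b + b ^ 2 * t - t * b = 0 := by
          by_contra hne
          refine hns (-(a ^ 2 - b ^ 2 - t * a + 1) / (2 * a * b + b ^ 2 * t - t * b)) ?_
          apply smul_right_injective M₂ hne
          simp only
          rw [smul_smul, mul_div_cancel₀ _ hne, neg_smul, ← add_eq_zero_iff_neg_eq.mp key]
        have hcoef0 : a ^ 2 - b ^ 2 - t * a + 1 = 0 := by
          rw [hcoef, zero_smul, add_zero] at key
          simpa using key
        have hb0 : b ≠ 0 := by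
          intro h0
          rw [h0, zero_smul, add_zero] at hab
          refine hns a ?_
          calc A = φ h⁻¹ * φ (h * g * h⁻¹) * φ h := by rw [hA', ← map_mul, ← map_mul]; congr 1; group
            _ = a • 1 := by rw [hab, mul_smul_comm, mul_one, smul_mul_assoc, hinv']
        have h2 : 2 * a + b * t - t = 0 :=
          (mul_eq_zero.mp (show b * (2 * a + b * t - t) = 0 by linear_combination hcoef)).resolve_left hb0
        have hprod : (b ^ 2 - 1) * (t ^ 2 - 4) = 0 := by
          linear_combination (4 : F) * hcoef0 + (t - 2 * a + b * t) * h2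
        have hb2 : (b - 1) * (b + 1) = 0 := by
          rcases mul_eq_zero.mp hprod with h | h
          · linear_combination h
          · exfalso
            rcases mul_eq_zero.mp (show (t - 2) * (t + 2) = 0 by linear_combination h) with h | h
            · exact ht2 (sub_eq_zero.mp h)
            · exact htm (eq_neg_of_add_eq_zero_left h)
        rcases mul_eq_zero.mp hb2 with h3 | h3
        · have hb : b = 1 := sub_eq_zero.mp h3
          have ha : a = 0 := (mul_eq_zero.mp (show 2 * a = 0 by rw [hb] at h2; linear_combination h2)).resolve_left h2F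
          have he : h * g * h⁻¹ = g := hφ (by rw [hab, ha, hb]; simp [hA'])
          exact mul_inv_eq_iff_eq_mul.mp he
        · have hb : b = -1 := eq_neg_of_add_eq_zero_left h3
          have ha : a = t := by
            rw [hb] at h2
            exact sub_eq_zero.mp ((mul_eq_zero.mp (show 2 * (a - t) = 0 by linear_combination h2)).resolve_left h2F)
          have he : h * g * h⁻¹ = g⁻¹ := by
            refine eq_inv_of_mul_eq_one_left (hφ ?_)
            rw [map_mul, hab, map_one, ha, hb, add_mul, smul_mul_assoc, smul_mul_assoc, one_mul, ← hA', hA]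
            module
          have he2 : h ^ 2 * g = g * h ^ 2 := by
            have h4 : h * g⁻¹ * h⁻¹ = g := by
              rw [show h * g⁻¹ * h⁻¹ = (h * g * h⁻¹)⁻¹ by group, he, inv_inv]
            calc h ^ 2 * g = h * (h * g * h⁻¹) * h⁻¹ * h ^ 2 := by rw [pow_two]; group
              _ = g * h ^ 2 := by rw [he, h4]
          obtain ⟨m, hm⟩ := exists_pow_eq_self_of_coprime
            (hodd.coprime_two_left.coprime_dvd_right (orderOf_dvd_natCard h))
          rw [← hm]
          exact Commute.pow_left he2 m
      refine hD (eq_bot_iff.mpr ?_)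
      rw [commutator_def, Subgroup.commutator_le]
      intro x _ y _
      rw [Subgroup.mem_bot, commutatorElement_eq_one_iff_mul_comm]
      have hcom : ∀ z, Commute (φ z) A := fun z => by
        rw [hA', Commute, SemiconjBy, ← map_mul, ← map_mul, hcent z]
      obtain ⟨a, b, hab⟩ := OddLocal.exists_eq_smul_add_smul hns (hcom x)
      refine hφ ?_
      rw [map_mul, map_mul]
      have hcA : Commute (φ x) (φ y) := by
        rw [hab]
        exact ((Commute.one_left _).smul_left a).add_left ((hcom y).symm.smul_left b)
      exact hcA.eq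
  -- `g` is unipotent
  set n' := A - 1 with hn'
  have hnn : n' * n' = 0 := by
    rw [hn', sub_mul, mul_sub, mul_sub, hA, hcase]; simp only [one_mul, mul_one]; module
  have hn0 : n' ≠ 0 := fun h => hns 1 (by rw [one_smul]; exact sub_eq_zero.mp h)
  have hscal : ∀ h : H, ∃ b : F, φ h * n' = b • (n' * φ h) := by
    intro h
    have hc : Commute (φ (h * g * h⁻¹)) A := by
      rw [hA', Commute, SemiconjBy, ← map_mul, ← map_mul, hNc _ (hNn.conj_mem g hgN h) g hgN]
    obtain ⟨a, b, hab⟩ := OddLocal.exists_eq_smul_add_smul hns hc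
    have hX : φ h * n' * φ h⁻¹ = (a + b - 1) • (1 : M₂) + b • n' := by
      calc φ h * n' * φ h⁻¹ = φ (h * g * h⁻¹) - 1 := by
            rw [hn', mul_sub, sub_mul, mul_one, hinv, map_mul, map_mul]
        _ = _ := by rw [hab, hn']; module
    have hX2 : (φ h * n' * φ h⁻¹) * (φ h * n' * φ h⁻¹) = 0 := by
      calc _ = φ h * n' * (φ h⁻¹ * φ h) * n' * φ h⁻¹ := by simp only [mul_assoc]
        _ = 0 := by rw [hinv', mul_one, mul_assoc (φ h) n' n', hnn, mul_zero, zero_mul]
    have hc0 : a + b - 1 = 0 := by
      rw [hX] at hX2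
      have h1 := congrArg (· * n') hX2
      simp only [add_mul, mul_add, smul_mul_assoc, mul_smul_comm, one_mul, mul_one, smul_smul, hnn,
        smul_zero, add_zero, zero_mul, mul_zero] at h1
      rcases smul_eq_zero.mp h1 with h | h
      · exact mul_self_eq_zero.mp h
      · exact absurd h hn0
    rw [hc0, zero_smul, zero_add] at hX
    refine ⟨b, ?_⟩
    calc φ h * n' = φ h * n' * φ h⁻¹ * φ h := by rw [mul_assoc _ (φ h⁻¹), hinv', mul_one]
      _ = b • (n' * φ h) := by rw [hX, smul_mul_assoc]
  let C : Subgroup H := Subgroup.centralizer {g}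
  have hDC : commutator H ≤ C := by
    rw [commutator_def, Subgroup.commutator_le]
    intro x _ y _
    obtain ⟨u, hu⟩ := hscal x
    obtain ⟨v, hv⟩ := hscal y
    have h1 : φ (x * y) * n' = (u * v) • (n' * φ (x * y)) := by
      rw [map_mul, mul_assoc, hv, mul_smul_comm, ← mul_assoc, hu, smul_mul_assoc, smul_smul, mul_comm u v,
        mul_assoc]
    have h2 : φ (y * x) * n' = (u * v) • (n' * φ (y * x)) := by
      rw [map_mul, mul_assoc, hu, mul_smul_comm, ← mul_assoc, hv, smul_mul_assoc, smul_smul, mul_assoc]
    have h3 : n' * φ (y * x)⁻¹ = (u * v) • (φ (y * x)⁻¹ * n') := by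
      calc n' * φ (y * x)⁻¹ = φ (y * x)⁻¹ * (φ (y * x) * n') * φ (y * x)⁻¹ := by
            rw [← mul_assoc (φ (y * x)⁻¹), hinv', one_mul]
        _ = _ := by
            rw [h2, mul_smul_comm, smul_mul_assoc, ← mul_assoc, mul_assoc _ (φ (y * x)), hinv, mul_one]
    have huv : u * v ≠ 0 := fun h => hn0 (by
      rw [h, zero_smul] at h1
      calc n' = φ (x * y)⁻¹ * (φ (x * y) * n') := by rw [← mul_assoc, hinv', one_mul]
        _ = 0 := by rw [h1, mul_zero])
    have hcm : Commute (φ ⁅x, y⁆) n' := by
      have he : ⁅x, y⁆ = (x * y) * (y * x)⁻¹ := by rw [commutatorElement_def]; group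
      rw [he, map_mul, Commute, SemiconjBy]
      apply smul_right_injective M₂ huv
      show (u * v) • (φ (x * y) * φ (y * x)⁻¹ * n') = (u * v) • (n' * (φ (x * y) * φ (y * x)⁻¹))
      rw [mul_assoc, ← mul_smul_comm, ← h3, ← mul_assoc, h1, smul_mul_assoc, mul_assoc]
    refine Subgroup.mem_centralizer_singleton_iff.mpr (hφ ?_)
    have hAe : A = n' + 1 := by rw [hn', sub_add_cancel]
    rw [map_mul, map_mul, ← hA', hAe, mul_add, add_mul, hcm.eq, mul_one, one_mul]
  intro d hd
  have hc : Commute (φ d) A := by
    rw [hA', Commute, SemiconjBy, ← map_mul, ← map_mul, Subgroup.mem_centralizer_singleton_iff.mp (hDC hd)]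
  obtain ⟨a, b, hab⟩ := OddLocal.exists_eq_smul_add_smul hns hc
  have hx' : φ d = (a + b) • (1 : M₂) + b • n' := by rw [hab, hn']; module
  have htn : n'.trace = 0 := by
    rw [hn', Matrix.trace_sub, ← ht, hcase, Matrix.trace_one]; simp
  have hdn : n'.det = 0 := by
    have := congrArg Matrix.det hnn
    rw [Matrix.det_mul, Matrix.det_zero] at this
    exact mul_self_eq_zero.mp this
  have hsq' : (a + b) ^ 2 = 1 := by
    rw [← OddLocal.det_smul_one_add htn hdn (a + b) b, ← hx']
    exact hdet d hd
  have hp0 : n' ^ p = 0 := by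
    obtain ⟨j, hj⟩ : ∃ j, p = j + 2 := ⟨p - 2, by have := hp.out.two_le; omega⟩
    rw [hj, pow_add, pow_two, hnn, mul_zero]
  have hxp : φ d ^ p = (a + b) ^ p • (1 : M₂) := by
    rw [hx', add_pow_char_of_commute p (((Commute.one_left n').smul_left (a + b)).smul_right b),
      smul_pow, one_pow, smul_pow b n', hp0, smul_zero, add_zero]
  refine hsq1 _ (hφ ?_)
  rw [map_pow, map_pow, map_one, hxp, smul_pow, one_pow, ← pow_mul, mul_comm, pow_mul, hsq', one_pow, one_smul]

end

/-- Transfer to a homomorphic image among the matrices. -/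
theorem hom_pow_eq_one {p : ℕ} [Fact p.Prime] (hp2 : p ≠ 2) {A : Type*} [Group A] [Finite A]
    [Group.IsSolvable A] (hodd : Odd (Nat.card A)) (φ : A →* Matrix (Fin 2) (Fin 2) (ZMod p))
    (d : A) (hd : d ∈ commutator A) : φ d ^ p = 1 := by
  let H : Subgroup (Matrix (Fin 2) (Fin 2) (ZMod p))ˣ := φ.toHomUnits.range
  let ψ : H →* Matrix (Fin 2) (Fin 2) (ZMod p) := (Units.coeHom _).comp H.subtype
  let π : A →* H := φ.toHomUnits.rangeRestrict
  have hπ : Function.Surjective π := φ.toHomUnits.rangeRestrict_surjective
  haveI : Group.IsSolvable H := Group.isSolvable_of_surjective hπ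
  have hodd' : Odd (Nat.card H) := hodd.of_dvd_nat (Subgroup.card_dvd_of_surjective π hπ)
  have hdd : π d ∈ commutator H := by
    have h := Subgroup.mem_map_of_mem π hd
    rw [commutator_def, Subgroup.map_commutator] at h
    exact Subgroup.commutator_mono le_top le_top h
  have h := congrArg ψ (commutator_pow_eq_one hp2 hodd' ψ
    (fun a b e => Subtype.ext (Units.ext e)) _ hdd)
  rw [map_pow, map_one] at h
  exact h

/-- An odd solvable group of automorphisms of an abelian group of exponent `p` and order at most `p²`: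
the `p`-th powers of its derived group act trivially. -/
theorem commutator_pow_act_trivial {p : ℕ} [hp : Fact p.Prime] (hp2 : p ≠ 2) {V : Type*} [CommGroup V]
    [Finite V] (hexp : ∀ v : V, v ^ p = 1) (hcard : Nat.card V ≤ p ^ 2) {A : Type*} [Group A] [Finite A]
    [Group.IsSolvable A] (hodd : Odd (Nat.card A)) (f : A →* MulAut V) :
    ∀ d ∈ commutator A, f d ^ p = 1 := by
  classical
  intro d hd
  by_cases hcyc : IsCyclic V
  · obtain ⟨w, hw⟩ := IsCyclic.exists_generator (α := V)
    have hcomm : ∀ σ τ : MulAut V, σ * τ = τ * σ := fun σ τ => by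
      obtain ⟨i, hi⟩ := hw (σ w)
      obtain ⟨j, hj⟩ := hw (τ w)
      apply MulEquiv.ext
      intro x
      obtain ⟨m, rfl⟩ := hw x
      show σ (τ (w ^ m)) = τ (σ (w ^ m))
      simp only [map_zpow, ← hi, ← hj]
      simp only [← _root_.zpow_mul, mul_comm i j]
    have h1 : commutator A ≤ f.ker := by
      rw [commutator_def, Subgroup.commutator_le]
      intro x _ y _
      rw [MonoidHom.mem_ker, map_commutatorElement, commutatorElement_eq_one_iff_mul_comm]
      exact hcomm _ _
    rw [MonoidHom.mem_ker.mp (h1 hd), one_pow]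
  have hMod : Module (ZMod p) (Additive V) := AddCommGroup.zmodModule fun x => by
    show Additive.ofMul ((Additive.toMul x) ^ p) = _
    rw [hexp]; rfl
  haveI := hMod
  have hVp : IsPGroup p V := fun v => ⟨1, by rw [pow_one, hexp]⟩
  obtain ⟨i, hi⟩ := IsPGroup.iff_card.mp hVp
  have hi2 : i = 2 := by
    have h2 : i ≤ 2 := (Nat.pow_le_pow_iff_right hp.out.one_lt).mp (hi ▸ hcard)
    rcases Nat.lt_or_ge i 2 with h | h
    · exfalso
      refine hcyc ?_
      interval_cases i
      · haveI : Subsingleton V := (Nat.card_eq_one_iff_unique.mp (by simpa using hi)).1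
        infer_instance
      · exact isCyclic_of_prime_card (p := p) (by simpa using hi)
    · omega
  have hfr : Module.finrank (ZMod p) (Additive V) = 2 := by
    haveI : Module.Finite (ZMod p) (Additive V) := Module.Finite.of_finite
    have h := Module.natCard_eq_pow_finrank (K := ZMod p) (V := Additive V)
    rw [Nat.card_zmod, show Nat.card (Additive V) = Nat.card V from Nat.card_congr Additive.toMul, hi, hi2] at h
    exact (Nat.pow_right_injective hp.out.two_le h).symm
  haveI : Module.Finite (ZMod p) (Additive V) := Module.Finite.of_finite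
  let bas : Module.Basis (Fin 2) (ZMod p) (Additive V) := Module.finBasisOfFinrankEq (ZMod p) (Additive V) hfr
  let L : A →* Module.End (ZMod p) (Additive V) :=
    { toFun := fun a => (MonoidHom.toAdditive (f a).toMonoidHom).toZModLinearMap p
      map_one' := LinearMap.ext fun x => by
        show Additive.ofMul (f 1 (Additive.toMul x)) = x
        rw [map_one]; rfl
      map_mul' := fun a b => LinearMap.ext fun x => by
        show Additive.ofMul (f (a * b) (Additive.toMul x)) = Additive.ofMul (f a (f b (Additive.toMul x)))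
        rw [map_mul]; rfl }
  let φ : A →* Matrix (Fin 2) (Fin 2) (ZMod p) :=
    { toFun := fun a => LinearMap.toMatrix bas bas (L a)
      map_one' := by rw [L.map_one]; exact LinearMap.toMatrix_one bas
      map_mul' := fun a b => by rw [L.map_mul]; exact LinearMap.toMatrix_mul bas (L a) (L b) }
  have hker : ∀ a, φ a = 1 ↔ f a = 1 := by
    intro a
    constructor
    · intro h
      have h1 : L a = 1 := (LinearMap.toMatrix bas bas).injective (h.trans (LinearMap.toMatrix_one bas).symm)
      apply MulEquiv.ext
      intro v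
      have h2 := LinearMap.congr_fun h1 (Additive.ofMul v)
      exact congrArg Additive.toMul h2
    · intro h
      have h1 : L a = 1 := LinearMap.ext fun x =>
        congrArg Additive.ofMul (DFunLike.congr_fun h (Additive.toMul x))
      show LinearMap.toMatrix bas bas (L a) = 1
      rw [h1]; exact LinearMap.toMatrix_one bas
  clear_value φ
  clear L
  rw [← map_pow, ← hker, map_pow]
  exact hom_pow_eq_one hp2 hodd φ d hd

end Cfsg.Agent.Lib.Hall
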