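import Cfsg.Agent.Lib.Hall.OddGLTwo
import Cfsg.Agent.Lib.OddLocal.SCN
import Cfsg.Agent.Lib.Thompson.PGroup
import Cfsg.Agent.Lib.FPF.FixedPointFree
import Cfsg.Agent.S0120
import Cfsg.Agent.S0121
import Cfsg.Prelude.Def_CaseTheorems

/-!
Odd solvable groups of automorphisms of `p`-groups of `p`-rank at most two, `p` odd.
-/

set_option autoImplicit false

namespace Cfsg.Agent.Lib.Hall

open Subgroup Cfsg.Agent.Lib
open scoped commutatorElement

/-- Restriction of an action to a characteristic subgroup. -/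
noncomputable def charRestrict {R : Type*} [Group R] (W : Subgroup R) [hW : W.Characteristic] :
    MulAut R →* MulAut W where
  toFun σ :=
    { toFun := fun w => ⟨σ (w : R), (SetLike.ext_iff.mp (hW.fixed σ) (w : R)).mpr w.2⟩
      invFun := fun w => ⟨σ⁻¹ (w : R), (SetLike.ext_iff.mp (hW.fixed σ⁻¹) (w : R)).mpr w.2⟩
      left_inv := fun w => Subtype.ext (MulAut.inv_apply_self _ _ _)
      right_inv := fun w => Subtype.ext (MulAut.apply_inv_self _ _ _)
      map_mul' := fun x y => Subtype.ext (map_mul σ (x : R) y) }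
  map_one' := rfl
  map_mul' := fun _ _ => rfl

/-- The automorphism induced on a quotient by a characteristic subgroup. -/
noncomputable def charQuotient {R : Type*} [Group R] (Z : Subgroup R) [hZ : Z.Characteristic] :
    MulAut R →* MulAut (R ⧸ Z) where
  toFun σ := QuotientGroup.congr Z Z σ (Subgroup.characteristic_iff_map_eq.mp hZ σ)
  map_one' := by
    apply MulEquiv.ext
    intro x
    induction x using QuotientGroup.induction_on
    rfl
  map_mul' := fun σ τ => by
    apply MulEquiv.ext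
    intro x
    induction x using QuotientGroup.induction_on
    rfl

/-- A `p`-group of exponent `p` and `p`-rank at most two is small. -/
theorem exponent_p_rank_two {p : ℕ} [hp : Fact p.Prime] {W : Type*} [Group W] [Finite W]
    (hexp : ∀ w : W, w ^ p = 1) (hr : Cfsg.PRankLE p 2 W) :
    ((∀ x y : W, x * y = y * x) ∧ Nat.card W ≤ p ^ 2) ∨
      ((¬ ∀ x y : W, x * y = y * x) ∧ Nat.card (center W) = p ∧ Nat.card (W ⧸ center W) ≤ p ^ 2) := by
  classical
  by_cases hab : ∀ x y : W, x * y = y * x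
  · refine Or.inl ⟨hab, ?_⟩
    have h := hr ⊤ ⟨⟨fun a b => Subtype.ext (hab a b)⟩⟩ fun a _ => hexp a
    rwa [Nat.card_congr Subgroup.topEquiv.toEquiv] at h
  refine Or.inr ⟨hab, ?_⟩
  have hW : IsPGroup p W := fun w => ⟨1, by rw [pow_one, hexp]⟩
  obtain ⟨A, -, hAn, hAc, hAcen⟩ := OddLocal.exists_selfCentralizing_normal hW (center W) inferInstance
  haveI := hAn
  have hA2 : Nat.card A ≤ p ^ 2 := hr A hAc fun a _ => hexp a
  have hZA : center W ≤ A := hAcen ▸ center_le_centralizer _
  obtain ⟨v, hvA, hvZ⟩ : ∃ v ∈ A, v ∉ center W := by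
    by_contra hno
    push Not at hno
    refine hab fun x y => ?_
    have h1 : x ∈ A := by
      rw [← hAcen]
      exact mem_centralizer_iff.mpr fun a ha => (mem_center_iff.mp (hno a ha) x).symm
    exact (mem_center_iff.mp (hno x h1) y).symm
  have hlt : center W < A := lt_of_le_of_ne hZA fun h => hvZ (h ▸ hvA)
  haveI : Nontrivial W := ⟨⟨v, 1, fun h => hvZ (h ▸ one_mem _)⟩⟩
  have hcp : p ≤ Nat.card (center W) := by
    obtain ⟨i, hi⟩ := IsPGroup.iff_card.mp (hW.to_subgroup (center W))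
    have hne : i ≠ 0 := fun h => hW.bot_lt_center.ne' (card_eq_one.mp (by rw [hi, h, pow_zero]))
    rw [hi]; exact Nat.le_self_pow hne p
  have hmul := Thompson.card_mul_p_le hW hlt
  have hAcard : Nat.card A = p ^ 2 := le_antisymm hA2
    (by rw [pow_two]; exact (Nat.mul_le_mul_left p hcp).trans hmul)
  have hZ : Nat.card (center W) = p :=
    le_antisymm (Nat.le_of_mul_le_mul_left (hmul.trans (hA2.trans (pow_two p).le)) hp.out.pos) hcp
  refine ⟨hZ, ?_⟩
  -- commutation with `v` takes values in the centre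
  have hval : ∀ w : W, ⁅w, v⁆ ∈ center W := by
    intro w
    let N : Subgroup (W ⧸ center W) := A.map (QuotientGroup.mk' (center W))
    have hNn : N.Normal := Subgroup.Normal.map hAn _ (QuotientGroup.mk'_surjective _)
    have hNcard : Nat.card N ≤ p := by
      have h1 := Lib.Coprime.card_map_mul_card_inf_ker (QuotientGroup.mk' (center W)) A
      rw [QuotientGroup.ker_mk', inf_eq_right.mpr hZA, hZ, hAcard, pow_two] at h1
      exact (Nat.eq_of_mul_eq_mul_right hp.out.pos h1).le
    by_cases hN : N = ⊥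
    · exact absurd ((QuotientGroup.eq_one_iff v).mp (mem_bot.mp (hN ▸ mem_map_of_mem _ hvA))) hvZ
    obtain ⟨z, hzN, hzc, hzo⟩ := Thompson.exists_central_order_p (hW.to_quotient _) hN
    have hNeq : zpowers z = N := eq_of_le_of_card_ge (zpowers_le.mpr hzN) (by rw [Nat.card_zpowers, hzo]; exact hNcard)
    have hvc : (QuotientGroup.mk' (center W)) v ∈ center (W ⧸ center W) := by
      have h1 : (QuotientGroup.mk' (center W)) v ∈ zpowers z := hNeq ▸ mem_map_of_mem _ hvA
      exact zpowers_le.mpr hzc h1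
    rw [← QuotientGroup.eq_one_iff, ← QuotientGroup.mk'_apply, map_commutatorElement,
      commutatorElement_eq_one_iff_mul_comm]
    exact mem_center_iff.mp hvc _
  have hinj : ∀ a b : W, ⁅a, v⁆ = ⁅b, v⁆ → b⁻¹ * a ∈ A := by
    intro a b h
    have h1 : Commute (b⁻¹ * a) v := by
      have e : a * v * a⁻¹ = b * v * b⁻¹ := by
        simpa [commutatorElement_def] using h
      calc b⁻¹ * a * v = b⁻¹ * (a * v * a⁻¹) * a := by group
        _ = v * (b⁻¹ * a) := by rw [e]; group
    rw [← hAcen]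
    refine mem_centralizer_iff.mpr fun x hx => ?_
    have hgen : center W ⊔ zpowers v = A := by
      refine eq_of_le_of_card_ge (sup_le hZA (zpowers_le.mpr hvA)) ?_
      have hlt2 : center W < center W ⊔ zpowers v :=
        lt_of_le_of_ne le_sup_left fun h => hvZ (h ▸ mem_sup_right (mem_zpowers v))
      have := Thompson.card_mul_p_le hW hlt2
      rwa [hZ, ← pow_two, ← hAcard] at this
    have hle : A ≤ centralizer {b⁻¹ * a} := by
      rw [← hgen]
      exact sup_le (center_le_centralizer _) (zpowers_le.mpr (mem_centralizer_singleton_iff.mpr h1.symm))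
    exact mem_centralizer_singleton_iff.mp (hle hx)
  have hidx : Nat.card (W ⧸ A) ≤ p := by
    rw [← hZ]
    let F : W ⧸ A → center W := fun q => ⟨⁅q.out, v⁆, hval _⟩
    refine Nat.card_le_card_of_injective F fun q r h => ?_
    have h1 := hinj _ _ (congrArg Subtype.val h).symm
    rw [← q.out_eq, ← r.out_eq]
    exact QuotientGroup.eq.mpr h1
  have h1 := A.card_mul_index
  rw [hAcard, index_eq_card] at h1
  have h2 := (center W).card_mul_index
  rw [hZ, index_eq_card, ← h1] at h2
  refine Nat.le_of_mul_le_mul_left ?_ hp.out.pos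
  rw [h2]
  calc p ^ 2 * Nat.card (W ⧸ A) ≤ p ^ 2 * p := Nat.mul_le_mul_left _ hidx
    _ = p * p ^ 2 := Nat.mul_comm _ _

universe u

/-- A `p`-group of rank at most two has a faithful-modulo-`p` representation on an abelian group of order `≤ p²`. -/
theorem exists_small_rep {R : Type u} [Group R] [Finite R] {p : ℕ} [hp : Fact p.Prime] (hp2 : p ≠ 2)
    (hR : IsPGroup p R) (hr : Cfsg.PRankLE p 2 R) :
    ∃ (V : Type u) (_ : CommGroup V) (_ : Finite V) (q : MulAut R →* MulAut V),
      (∀ v : V, v ^ p = 1) ∧ Nat.card V ≤ p ^ 2 ∧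
        ∀ b : MulAut R, (orderOf b).Coprime p → q b = 1 → b = 1 := by
  classical
  obtain ⟨H, hH, hH1, hH2, hH3⟩ := Thompson.exists_critical hR
  haveI := hH
  have hcl : ⁅commutator H, (⊤ : Subgroup H)⁆ = ⊥ := by
    rw [commutator_eq_bot_iff_le_centralizer, coe_top, centralizer_univ, commutator_def, commutator_le]
    intro x _ y _
    have h1 : ((⁅x, y⁆ : H) : R) ∈ H ⊓ centralizer (H : Set R) := by
      refine hH2 ?_
      exact commutator_mem_commutator x.2 (mem_top (y : R))
    exact mem_center_iff.mpr fun z => Subtype.ext (mem_centralizer_iff.mp h1.2 (z : R) z.2)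
  let W : Subgroup H :=
    { carrier := {x | x ^ p = 1}
      one_mem' := one_pow p
      mul_mem' := fun hx hy => Thompson.pow_mul_eq_one_class_two hp2 hcl hx hy
      inv_mem' := fun {x} hx => by
        show x⁻¹ ^ p = 1
        rw [inv_pow, show x ^ p = 1 from hx, inv_one] }
  haveI hWc : W.Characteristic := characteristic_iff_le_comap.mpr fun φ x hx => by
    show φ.toMonoidHom x ^ p = 1
    rw [← map_pow, show x ^ p = 1 from hx, map_one]
  have hWexp : ∀ w : W, w ^ p = 1 := fun w => Subtype.ext ((SubmonoidClass.coe_pow w p).trans w.2)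
  have hWr : Cfsg.PRankLE p 2 W := by
    intro B hB hBp
    let e : W →* R := H.subtype.comp W.subtype
    have he : Function.Injective e := fun a b h => Subtype.ext (Subtype.ext h)
    rw [← card_map_of_injective he]
    haveI := hB
    refine hr (B.map e) inferInstance ?_
    rintro _ ⟨b, hb, rfl⟩
    rw [← map_pow, hBp b hb, map_one]
  let gw : MulAut R →* MulAut W := (charRestrict W).comp (charRestrict H)
  have hW : IsPGroup p W := fun w => ⟨1, by rw [pow_one, hWexp]⟩
  have lift : ∀ b : MulAut R, (orderOf b).Coprime p → (∀ w : W, gw b w = w) → b = 1 := by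
    intro b hbo hWb
    have hHb : charRestrict H b = 1 := by
      refine Cfsg.Agent.S0120.result hp2 (hR.to_subgroup H) _ (hbo.coprime_dvd_left (orderOf_map_dvd _ b)) ?_
      intro x hx
      exact congrArg Subtype.val (hWb ⟨x, hx⟩)
    exact Cfsg.Agent.S0121.result hR H hH hH1 hH2 hH3 b hbo fun x hx => by
      have h := DFunLike.congr_fun hHb (⟨x, hx⟩ : H)
      exact congrArg Subtype.val h
  rcases exponent_p_rank_two hWexp hWr with ⟨hcomm, hcard⟩ | ⟨hnc, hZ, hq⟩
  · letI cg : CommGroup W := { (inferInstance : Group W) with mul_comm := hcomm }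
    exact ⟨W, cg, inferInstance, gw, hWexp, hcard, fun b hbo hb => lift b hbo fun w => by rw [hb]; rfl⟩
  · let Z := center W
    have hqexp : ∀ v : W ⧸ Z, v ^ p = 1 := fun v => by
      induction v using QuotientGroup.induction_on with
      | H x => rw [← QuotientGroup.mk_pow, hWexp]; rfl
    have hQp : IsPGroup p (W ⧸ Z) := fun v => ⟨1, by rw [pow_one, hqexp]⟩
    have hqc : ∀ x y : W ⧸ Z, x * y = y * x := by
      obtain ⟨i, hi⟩ := IsPGroup.iff_card.mp hQp
      have h2 : i ≤ 2 := (Nat.pow_le_pow_iff_right hp.out.one_lt).mp (hi ▸ hq)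
      intro x y
      interval_cases i
      · haveI : Subsingleton (W ⧸ Z) := (Nat.card_eq_one_iff_unique.mp (by simpa using hi)).1
        exact Subsingleton.elim _ _
      · haveI := isCyclic_of_prime_card (p := p) (by simpa using hi : Nat.card (W ⧸ Z) = p)
        exact (IsCyclic.commGroup (α := W ⧸ Z)).mul_comm x y
      · exact (IsPGroup.isMulCommutative_of_card_eq_prime_sq hi).is_comm.comm x y
    letI cq : CommGroup (W ⧸ Z) := { (inferInstance : Group (W ⧸ Z)) with mul_comm := hqc }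
    refine ⟨W ⧸ Z, cq, inferInstance, (charQuotient Z).comp gw, hqexp, hq, fun b hbo h2 => lift b hbo ?_⟩
    have hbW : (orderOf (gw b)).Coprime p := hbo.coprime_dvd_left (orderOf_map_dvd gw b)
    have hmod : ∀ w : W, w⁻¹ * gw b w ∈ Z := fun w =>
      QuotientGroup.eq.mp (DFunLike.congr_fun h2 (QuotientGroup.mk w)).symm
    obtain ⟨x, y, hxy⟩ : ∃ x y : W, ⁅x, y⁆ ≠ 1 := by
      by_contra hno
      push Not at hno
      exact hnc fun x y => commutatorElement_eq_one_iff_mul_comm.mp (hno x y)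
    have hzy : ⁅x, y⁆ ∈ Z := by
      rw [← QuotientGroup.eq_one_iff, ← QuotientGroup.mk'_apply, map_commutatorElement,
        commutatorElement_eq_one_iff_mul_comm]
      exact hqc _ _
    have hfixc : gw b ⁅x, y⁆ = ⁅x, y⁆ := by
      obtain ⟨z1, hz1, e1⟩ : ∃ z ∈ Z, gw b x = x * z := ⟨_, hmod x, by group⟩
      obtain ⟨z2, hz2, e2⟩ : ∃ z ∈ Z, gw b y = y * z := ⟨_, hmod y, by group⟩
      rw [map_commutatorElement, e1, e2]
      have c1 : ∀ u, Commute z1 u := fun u => (mem_center_iff.mp hz1 u).symm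
      have c2 : ∀ u, Commute z2 u := fun u => (mem_center_iff.mp hz2 u).symm
      simp only [commutatorElement_def, mul_inv_rev]
      calc x * z1 * (y * z2) * (z1⁻¹ * x⁻¹) * (z2⁻¹ * y⁻¹)
          = x * (z1 * (y * z2)) * z1⁻¹ * x⁻¹ * z2⁻¹ * y⁻¹ := by group
        _ = x * y * (z2 * x⁻¹) * z2⁻¹ * y⁻¹ := by rw [(c1 (y * z2)).eq]; group
        _ = x * y * x⁻¹ * y⁻¹ := by rw [(c2 x⁻¹).eq]; group
    have hZfix : ∀ z ∈ Z, gw b z = z := by
      intro z hz
      have hz' : zpowers ⁅x, y⁆ = Z := by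
        refine eq_of_le_of_card_ge (zpowers_le.mpr hzy) ?_
        rw [Nat.card_zpowers, hZ, orderOf_eq_prime (hWexp _) hxy]
      obtain ⟨i, rfl⟩ := mem_zpowers_iff.mp (hz' ▸ hz)
      rw [map_zpow, hfixc]
    intro w
    exact Thompson.eq_self_of_coprime hW hbW (hZfix _ (hmod w))

/-- An odd solvable group acting on a `p`-group of rank at most two: its derived group induces a `p`-group. -/
theorem commutator_act_pPow {R : Type u} [Group R] [Finite R] {p : ℕ} [hp : Fact p.Prime] (hp2 : p ≠ 2)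
    (hR : IsPGroup p R) (hr : Cfsg.PRankLE p 2 R) {A : Type*} [Group A] [Finite A] [Group.IsSolvable A]
    (hodd : Odd (Nat.card A)) (f : A →* MulAut R) :
    ∀ d ∈ commutator A, ∃ k : ℕ, f d ^ p ^ k = 1 := by
  classical
  obtain ⟨V, _, _, q, hexp, hcard, hlift⟩ := exists_small_rep hp2 hR hr
  intro d hd
  have h := commutator_pow_act_trivial hp2 hexp hcard hodd (q.comp f) d hd
  let k := (orderOf (f d)).factorization p
  refine ⟨k, ?_⟩
  have hbo : (orderOf (f d ^ p ^ k)).Coprime p := by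
    rw [orderOf_pow_of_dvd (pow_ne_zero _ hp.out.ne_zero) (Nat.ordProj_dvd _ _)]
    exact (Nat.coprime_ordCompl hp.out (orderOf_pos (f d)).ne').symm
  refine hlift _ hbo ?_
  rw [← orderOf_eq_one_iff]
  refine Nat.eq_one_of_dvd_coprimes hbo (orderOf_map_dvd q _) (orderOf_dvd_of_pow_eq_one ?_)
  rw [map_pow, ← pow_mul, mul_comm, pow_mul]
  rw [show q (f d) ^ p = 1 from h, one_pow]

/-- For odd `p`, a prime bigger than `p` divides no automorphism group of a rank two `p`-group. -/
theorem eq_one_of_prime_gt {R : Type u} [Group R] [Finite R] {p : ℕ} [hp : Fact p.Prime] (hp2 : p ≠ 2)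
    (hR : IsPGroup p R) (hr : Cfsg.PRankLE p 2 R) {ℓ : ℕ} (hℓ : ℓ.Prime) (hlt : p < ℓ) (b : MulAut R)
    (hb : b ^ ℓ = 1) : b = 1 := by
  classical
  obtain ⟨V, _, _, q, hexp, hcard, hlift⟩ := exists_small_rep hp2 hR hr
  have hbo : (orderOf b).Coprime p :=
    ((Nat.coprime_primes hℓ hp.out).mpr hlt.ne').coprime_dvd_left (orderOf_dvd_of_pow_eq_one hb)
  refine hlift b hbo ?_
  haveI := Fact.mk hℓ
  set σ := q b with hσ
  have hσℓ : σ ^ ℓ = 1 := by rw [hσ, ← map_pow, hb, map_one]
  letI : MulAction (zpowers σ) V := MulAction.compHom V (zpowers σ).subtype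
  have hZ : IsPGroup ℓ (zpowers σ) := by
    rintro ⟨z, hz⟩
    obtain ⟨i, rfl⟩ := mem_zpowers_iff.mp hz
    exact ⟨1, Subtype.ext (by
      show (σ ^ i) ^ (ℓ ^ 1) = 1
      rw [pow_one, ← zpow_natCast, ← _root_.zpow_mul, mul_comm, _root_.zpow_mul, zpow_natCast, hσℓ, one_zpow])⟩
  let C : Subgroup V :=
    { carrier := {v | σ v = v}
      one_mem' := map_one σ
      mul_mem' := fun {x y} hx hy => by show σ (x * y) = x * y; rw [map_mul, hx, hy]
      inv_mem' := fun {x} hx => by show σ x⁻¹ = x⁻¹; rw [map_inv, hx] }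
  have hfix : MulAction.fixedPoints (zpowers σ) V = (C : Set V) := by
    ext v
    refine ⟨fun h => h ⟨σ, mem_zpowers σ⟩, fun h => ?_⟩
    rintro ⟨z, hz⟩
    have hle : zpowers σ ≤ MulAction.stabilizer (MulAut V) v := zpowers_le.mpr h
    exact hle hz
  have hmod := hZ.card_modEq_card_fixedPoints V
  rw [hfix, Nat.card_coe_set_eq, ← Nat.card_coe_set_eq] at hmod
  have hVp : IsPGroup p V := fun v => ⟨1, by rw [pow_one, hexp]⟩
  obtain ⟨m, hm⟩ := IsPGroup.iff_card.mp hVp
  obtain ⟨i, hi⟩ := IsPGroup.iff_card.mp (hVp.to_subgroup C)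
  have hm2 : m ≤ 2 := (Nat.pow_le_pow_iff_right hp.out.one_lt).mp (hm ▸ hcard)
  have him : i ≤ m := (Nat.pow_le_pow_iff_right hp.out.one_lt).mp (hm ▸ hi ▸ C.card_le_card_group)
  apply MulEquiv.ext
  intro v
  suffices hCt : C = ⊤ by exact (hCt ▸ mem_top v : v ∈ C)
  refine eq_top_of_card_eq _ ?_
  rw [hi, hm]
  rcases eq_or_lt_of_le him with h | h
  · rw [h]
  exfalso
  have hmod' : p ^ m ≡ p ^ i [MOD ℓ] := by rw [← hm, ← hi]; exact hmod
  have hd := (Nat.modEq_iff_dvd' (Nat.pow_le_pow_right hp.out.pos him)).mp hmod'.symm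
  have hfac : p ^ m - p ^ i = p ^ i * (p ^ (m - i) - 1) := by
    rw [Nat.mul_sub, mul_one, ← pow_add, Nat.add_sub_cancel' him]
  rw [hfac] at hd
  rcases hℓ.dvd_mul.mp hd with hd1 | hd1
  · exact absurd (Nat.le_of_dvd hp.out.pos (hℓ.dvd_of_dvd_pow hd1)) (by omega)
  · have h3 : 3 ≤ p := by have := hp.out.two_le; omega
    obtain hj | hj : m - i = 1 ∨ m - i = 2 := by omega
    · rw [hj, pow_one] at hd1
      exact absurd (Nat.le_of_dvd (by omega) hd1) (by omega)
    · rw [hj, show p ^ 2 - 1 = (p + 1) * (p - 1) by rw [← Nat.sq_sub_sq, one_pow]] at hd1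
      rcases hℓ.dvd_mul.mp hd1 with hd2 | hd2
      · have he : ℓ = p + 1 := by
          have := Nat.le_of_dvd (by omega) hd2
          omega
        obtain ⟨c, hc⟩ := hp.out.odd_of_ne_two hp2
        obtain ⟨e, hee⟩ := hℓ.odd_of_ne_two (by omega)
        omega
      · exact absurd (Nat.le_of_dvd (by omega) hd2) (by omega)

end Cfsg.Agent.Lib.Hall
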