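import Cfsg.Agent.Lib.Transfer.Fusion
import Cfsg.Agent.Lib.Transfer.Hall
import Cfsg.Agent.Lib.Coprime.Action
import Mathlib.GroupTheory.SpecificGroups.Cyclic
import Mathlib.GroupTheory.Nilpotent
import Cfsg.Prelude.Def_SolvableStructure

/-! Minimal non-nilpotent groups. -/

set_option autoImplicit false

namespace Cfsg.Agent.Lib.Hall

open Subgroup Cfsg

universe u

variable {G : Type u} [Group G]

/-- A finite group with a normal complement for every prime is nilpotent. -/
theorem isNilpotent_of_forall_hasNormalPComplement [Finite G]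
    (h : ∀ p : ℕ, p.Prime → HasNormalPComplement p G) : Group.IsNilpotent G := by
  let I := {p : ℕ // p ∈ (Nat.card G).primeFactors}
  have : Finite I := Finite.of_injective (fun p : I => (⟨p.1, p.2⟩ : ((Nat.card G).primeFactors : Set ℕ)))
    fun a b e => Subtype.ext (congrArg Subtype.val e)
  have hN : ∀ p : I, (pResidual (p : ℕ) G).Normal := fun p =>
    haveI := Lib.Transfer.pResidual_characteristic (p := (p : ℕ)) (G := G)
    inferInstance
  let f : G →* ∀ p : I, G ⧸ pResidual (p : ℕ) G :=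
    Pi.monoidHom fun p => QuotientGroup.mk' (pResidual (p : ℕ) G)
  have hf : Function.Injective f := (injective_iff_map_eq_one f).mpr fun g hg => by
    by_contra hg1
    obtain ⟨p, hp, hdvd⟩ := Nat.exists_prime_and_dvd (fun e => hg1 (orderOf_eq_one_iff.mp e))
    haveI := Fact.mk hp
    have hmem : g ∈ pResidual p G := (QuotientGroup.eq_one_iff g).mp
      (congrFun hg ⟨p, Nat.mem_primeFactors.mpr ⟨hp, hdvd.trans (_root_.orderOf_dvd_natCard g), Nat.card_pos.ne'⟩⟩)
    exact Lib.Transfer.hasNormalPComplement_iff.mp (h p hp)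
      (hdvd.trans (orderOf_dvd_natCard (pResidual p G) hmem))
  have : ∀ p : I, Group.IsNilpotent (G ⧸ pResidual (p : ℕ) G) := fun p => by
    haveI := Fact.mk (Nat.prime_of_mem_primeFactors p.2)
    exact Lib.Transfer.isPGroup_quotient_pResidual.isNilpotent
  exact Group.nilpotent_of_mulEquiv (MonoidHom.ofInjective hf).symm

/-- An element outside a subgroup has a power of prime power order outside it. -/
theorem exists_primePow_not_mem [Finite G] (C : Subgroup G) {g : G} (hg : g ∉ C) :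
    ∃ x ∈ zpowers g, x ∉ C ∧ ∃ p k : ℕ, p.Prime ∧ orderOf x = p ^ k := by
  suffices H : ∀ n, ∀ g : G, orderOf g = n → g ∉ C →
      ∃ x ∈ zpowers g, x ∉ C ∧ ∃ p k : ℕ, p.Prime ∧ orderOf x = p ^ k from H _ g rfl hg
  intro n
  induction n using Nat.recOnPrimeCoprime with
  | zero => exact fun g h => absurd h (orderOf_pos g).ne'
  | prime_pow p k hp => exact fun g h hC => ⟨g, mem_zpowers g, hC, p, k, hp, h⟩
  | coprime a b ha hb hab iha ihb =>
    intro g h hC
    have ha' : orderOf (g ^ b) = a := by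
      rw [orderOf_pow_of_dvd (by omega) (h ▸ dvd_mul_left b a), h, Nat.mul_div_cancel _ (by omega)]
    have hb' : orderOf (g ^ a) = b := by
      rw [orderOf_pow_of_dvd (by omega) (h ▸ dvd_mul_right a b), h, Nat.mul_div_cancel_left _ (by omega)]
    by_cases h1 : g ^ b ∈ C
    · by_cases h2 : g ^ a ∈ C
      · exfalso
        apply hC
        have e : g = (g ^ a) ^ Nat.gcdA a b * (g ^ b) ^ Nat.gcdB a b := by
          rw [← zpow_natCast, ← zpow_natCast, ← zpow_mul, ← zpow_mul, ← zpow_add, ← Nat.gcd_eq_gcd_ab,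
            hab.gcd_eq_one]; simp
        rw [e]
        exact mul_mem (zpow_mem h2 _) (zpow_mem h1 _)
      · obtain ⟨x, hx, r⟩ := ihb _ hb' h2
        exact ⟨x, zpowers_le.mpr (pow_mem (mem_zpowers g) a) hx, r⟩
    · obtain ⟨x, hx, r⟩ := iha _ ha' h1
      exact ⟨x, zpowers_le.mpr (pow_mem (mem_zpowers g) b) hx, r⟩

/-- Structure of minimal non-nilpotent groups. -/
theorem minimal_non_nilpotent_structure [Finite G] (hG : IsMinimalNonNilpotent G) :
    ∃ p q : ℕ, p.Prime ∧ q.Prime ∧ p ≠ q ∧ ∃ (P : Sylow p G) (Q : Sylow q G) (x : G),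
      (P : Subgroup G) = zpowers x ∧ (Q : Subgroup G).Normal ∧ (P : Subgroup G) ⊔ Q = ⊤ ∧
      x ∉ centralizer ((Q : Subgroup G) : Set G) := by
  obtain ⟨hG1, hG2⟩ := hG
  have hex : ∃ q : ℕ, q.Prime ∧ ∃ U : Subgroup G, IsPGroup q U ∧ ¬ Lib.Transfer.AutPGroup q U := by
    by_contra! hall
    exact hG1 (isNilpotent_of_forall_hasNormalPComplement fun q hq => by
      haveI := Fact.mk hq
      exact Lib.Transfer.frobenius_criterion (hall q hq))
  obtain ⟨q, hq, U, hU, hUA⟩ := hex
  obtain ⟨g, hgN, hgo, hgC⟩ : ∃ g ∈ normalizer (U : Set G), Nat.Coprime (orderOf g) q ∧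
      g ∉ centralizer (U : Set G) := by
    by_contra! h; exact hUA h
  haveI := Fact.mk hq
  obtain ⟨x, hxg, hxC, p, k, hp, hx⟩ := exists_primePow_not_mem _ hgC
  have hk : k ≠ 0 := fun h => hxC (by
    rw [h, pow_zero, orderOf_eq_one_iff] at hx; rw [hx]; exact one_mem _)
  have hxN : x ∈ normalizer (U : Set G) := zpowers_le.mpr hgN hxg
  have hcop : ∀ u ∈ U, (orderOf x).Coprime (orderOf u) := fun u hu => by
    obtain ⟨i, hi⟩ := IsPGroup.iff_orderOf.mp hU ⟨u, hu⟩
    rw [Subgroup.orderOf_mk] at hi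
    rw [hi]
    exact (hgo.coprime_dvd_left (orderOf_dvd_of_mem_zpowers hxg)).pow_right i
  have hnil : ∀ K : Subgroup G, U ≤ K → x ∈ K → K = ⊤ := fun K hUK hxK => by
    by_contra hK
    haveI := hG2 K hK
    exact hxC (mem_centralizer_iff.mpr fun u hu => (congrArg Subtype.val
      (Lib.Transfer.commute_of_coprime_orderOf (x := (⟨x, hxK⟩ : K)) (y := ⟨u, hUK hu⟩)
        (by simpa using hcop u hu)).eq).symm)
  have hUn : U.Normal := normalizer_eq_top_iff.mp (hnil _ le_normalizer hxN)
  have hsup : zpowers x ⊔ U = ⊤ := hnil _ le_sup_right (mem_sup_left (mem_zpowers x))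
  have hpq : p ≠ q := fun e => by
    have h1 : Nat.Coprime (p ^ k) q := hx ▸ hgo.coprime_dvd_left (orderOf_dvd_of_mem_zpowers hxg)
    rw [e] at h1
    exact hq.ne_one (Nat.Coprime.eq_one_of_dvd h1.symm (dvd_pow_self q hk))
  obtain ⟨j, hj⟩ := IsPGroup.iff_card.mp hU
  have hco : (Nat.card (zpowers x)).Coprime (Nat.card U) := by
    rw [Nat.card_zpowers, hx, hj]
    exact Nat.Coprime.pow k j ((Nat.coprime_primes hp hq).mpr hpq)
  have hxU : zpowers x ≤ normalizer (U : Set G) := by rw [normalizer_eq_top]; exact le_top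
  have hcard : Nat.card G = p ^ k * q ^ j := by
    rw [← card_top (G := G), ← hsup, Lib.Coprime.card_sup_of_coprime hxU hco, Nat.card_zpowers, hx, hj]
  haveI := Fact.mk hp
  have hPi : ¬ p ∣ (zpowers x).index := by
    have h1 := (zpowers x).card_mul_index
    rw [Nat.card_zpowers, hx, hcard] at h1
    rw [Nat.eq_of_mul_eq_mul_left (pow_pos hp.pos k) h1]
    exact fun h => hpq ((Nat.prime_dvd_prime_iff_eq hp hq).mp (hp.dvd_of_dvd_pow h))
  have hQi : ¬ q ∣ U.index := by
    have h1 := U.card_mul_index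
    rw [hj, hcard, mul_comm (p ^ k)] at h1
    rw [Nat.eq_of_mul_eq_mul_left (pow_pos hq.pos j) h1]
    exact fun h => hpq.symm ((Nat.prime_dvd_prime_iff_eq hq hp).mp (hq.dvd_of_dvd_pow h))
  have hP : IsPGroup p (zpowers x) := IsPGroup.of_card (n := k) (by rw [Nat.card_zpowers, hx])
  exact ⟨p, q, hp, hq, hpq, hP.toSylow hPi, hU.toSylow hQi, x, rfl, hUn, hsup, hxC⟩

/-- A finite group all of whose proper subgroups are nilpotent is solvable. -/
theorem isSolvable_of_forall_proper_isNilpotent [Finite G]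
    (h : ∀ H : Subgroup G, H ≠ ⊤ → Group.IsNilpotent H) : Group.IsSolvable G := by
  by_cases hn : Group.IsNilpotent G
  · infer_instance
  obtain ⟨p, q, hp, hq, -, P, Q, x, hPx, hQn, hsup, -⟩ := minimal_non_nilpotent_structure (G := G) ⟨hn, h⟩
  haveI := Fact.mk hq
  haveI : Group.IsNilpotent Q := Q.2.isNilpotent
  let π := QuotientGroup.mk' (Q : Subgroup G)
  have hc : ∀ z : G ⧸ (Q : Subgroup G), z ∈ zpowers (π x) := fun z => by
    obtain ⟨g, rfl⟩ := QuotientGroup.mk'_surjective _ z
    have h1 : (P : Subgroup G) ⊔ Q ≤ (zpowers (π x)).comap π := sup_le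
      (hPx ▸ zpowers_le.mpr (mem_zpowers (π x))) fun u hu => by
        rw [mem_comap, show π u = 1 from (QuotientGroup.eq_one_iff u).mpr hu]; exact one_mem _
    exact h1 (hsup ▸ mem_top g)
  haveI : Group.IsSolvable (G ⧸ (Q : Subgroup G)) := Group.isSolvable_of_comm fun a b => by
    obtain ⟨i, rfl⟩ := mem_zpowers_iff.mp (hc a)
    obtain ⟨j, rfl⟩ := mem_zpowers_iff.mp (hc b)
    rw [← zpow_add, ← zpow_add, add_comm]
  exact Group.isSolvable_of_ker_le_range (Q : Subgroup G).subtype π
    (by rw [QuotientGroup.ker_mk', range_subtype])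

end Cfsg.Agent.Lib.Hall
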